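import Cfsg.Agent.Lib.Presented.Simple
import Cfsg.Agent.Lib.Th.Triality

/-!
A nontrivial normal subgroup of the presented triality group contains the first generator, so the map to the
presented Thompson group is injective unless the latter is trivial.
-/
set_option autoImplicit false
set_option maxRecDepth 8000

namespace CfsgLib.ThMult

open CfsgLib.Presented CfsgLib.Presented.Vec CfsgLib.Th

/-- A nontrivial normal subgroup of a primitive group contains the elements of a suitable prime order. -/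
theorem mem_normal_of_cert {G : Type*} [Group G] {R : Rep} (hR : R.valid = true) {p0 : ℕ} (hN : p0 < R.N)
    {ev : ℕ → G} (φ : G →* Equiv.Perm (Fin R.N)) (hφ : ∀ x, x < R.A.eps → φ (ev x) = R.perm hR x)
    (hinj : Function.Injective φ) (htr : ∀ j : Fin R.N, ∃ g, φ g ⟨p0, hN⟩ = j)
    {H : Subgroup G} {ws : List (List ℕ)} (hH : H = Subgroup.closure ((fun w => evW ev w) '' {w | w ∈ ws}))
    (hfix : ∀ h ∈ H, φ h ⟨p0, hN⟩ = ⟨p0, hN⟩)
    (Os : List HOrbit) (horb : (Os.all fun O => orbitOK R ws O.rep O.rounds O.bits) = true)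
    (hcover : coverOK R.N Os (1 <<< p0) = true) (hblock : noBlock R.N (Os.map HOrbit.size) = true)
    (p k : ℕ) (hp : p.Prime) (hpk : p ^ k ∣ R.N) (hpk' : ¬ p ^ (k + 1) ∣ Nat.card G)
    (u : List ℕ) (hup : R.relsOK [wpow u p] = true) (N : Subgroup G) (hN' : N.Normal) (hne : N ≠ ⊥) :
    evW ev u ∈ N := by
  classical
  have : Finite G := Finite.of_injective φ hinj
  let inst : MulAction G (Fin R.N) := MulAction.compHom (Fin R.N) φ
  have hsmul : ∀ (g : G) (i : Fin R.N), g • i = φ g i := fun _ _ => rfl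
  let z : Fin R.N := ⟨p0, hN⟩
  have hpre : MulAction.IsPretransitive G (Fin R.N) := ⟨fun a b => by
    obtain ⟨g, hg⟩ := htr a
    obtain ⟨h, hh⟩ := htr b
    refine ⟨h * g⁻¹, ?_⟩
    rw [hsmul, map_mul, Equiv.Perm.mul_apply, ← hg, ← Equiv.Perm.mul_apply (φ g⁻¹), ← map_mul,
      inv_mul_cancel, map_one, Equiv.Perm.one_apply, hh]⟩
  let B : Set (Fin R.N) := MulAction.orbit N z
  have hBblock : MulAction.IsBlock G B := MulAction.IsBlock.orbit_of_normal z
  have hzB : z ∈ B := MulAction.mem_orbit_self z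
  have hdvd : B.ncard ∣ R.N := by
    have h1 := MulAction.IsBlock.ncard_dvd_card hBblock ⟨z, hzB⟩
    rwa [Nat.card_fin] at h1
  have hHB : ∀ h ∈ H, ∀ i, i ∈ B → φ h i ∈ B := by
    rintro h hh _ ⟨⟨n, hn⟩, rfl⟩
    refine ⟨⟨h * n * h⁻¹, hN'.conj_mem n hn h⟩, ?_⟩
    show φ (h * n * h⁻¹) z = φ h (φ n z)
    rw [map_mul, map_mul, Equiv.Perm.mul_apply, Equiv.Perm.mul_apply]
    congr 2
    exact hfix h⁻¹ (H.inv_mem hh)
  let BF : Finset ℕ := (Finset.univ.filter fun i => i ∈ B).image Fin.val
  have hBF : ∀ i : Fin R.N, (i : ℕ) ∈ BF ↔ i ∈ B := by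
    intro i
    simp [BF, Fin.val_inj]
  have hdich : ∀ O ∈ Os, (∀ i, i < R.N → O.bits.testBit i = true → i ∈ BF) ∨
      ∀ i, i < R.N → O.bits.testBit i = true → i ∉ BF := by
    intro O hO
    rw [or_iff_not_imp_left]
    intro hnot i hi hb hiB
    apply hnot
    intro j hj hjb
    have hok := List.all_eq_true.1 horb O hO
    have hrep : O.rep < R.N := by
      simp only [orbitOK, Bool.and_eq_true, Nat.blt_eq] at hok
      exact hok.1.1
    obtain ⟨h1, hh1, e1⟩ := (orbit_eq_of_ok hR hok φ hφ hH hrep ⟨i, hi⟩).2 hb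
    obtain ⟨h2, hh2, e2⟩ := (orbit_eq_of_ok hR hok φ hφ hH hrep ⟨j, hj⟩).2 hjb
    have hrB : (⟨O.rep, hrep⟩ : Fin R.N) ∈ B := by
      have := hHB h1⁻¹ (H.inv_mem hh1) _ ((hBF ⟨i, hi⟩).1 hiB)
      rw [← e1, ← Equiv.Perm.mul_apply, ← map_mul, inv_mul_cancel, map_one, Equiv.Perm.one_apply] at this
      exact this
    exact (hBF ⟨j, hj⟩).2 (e2 ▸ hHB h2 hh2 _ hrB)
  have hmem := cover_sum BF Os (1 <<< p0) hcover hdich
  have hcardB : B.ncard = ((Finset.range R.N).filter fun i => i ∈ BF ∧ (1 <<< p0).testBit i = false).card + 1 := by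
    have e : B.ncard = BF.card := by
      rw [Finset.card_image_of_injective _ Fin.val_injective]
      rw [← Set.ncard_coe_finset]
      congr 1
      ext i
      simp
    rw [e]
    have e2 : BF = insert p0 ((Finset.range R.N).filter fun i => i ∈ BF ∧ (1 <<< p0).testBit i = false) := by
      ext i
      simp only [Finset.mem_insert, Finset.mem_filter, Finset.mem_range]
      constructor
      · intro hi
        by_cases h : i = p0
        · exact Or.inl h
        · refine Or.inr ⟨?_, hi, ?_⟩
          · simp only [BF, Finset.mem_image] at hi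
            obtain ⟨a, -, rfl⟩ := hi
            exact a.2
          · rw [Nat.testBit_shiftLeft]
            rcases Nat.lt_or_ge i p0 with hlt | hge
            · simp [Nat.not_le.2 hlt]
            · have : (i - p0) ≠ 0 := by omega
              cases hb : Nat.testBit 1 (i - p0)
              · simp
              · exact absurd (VCert.one_bit hb) this
      · rintro (rfl | ⟨-, h, -⟩)
        · exact (hBF z).2 hzB
        · exact h
    conv_lhs => rw [e2]
    rw [Finset.card_insert_of_notMem (by simp)]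
  simp only [noBlock, List.all_eq_true, Bool.or_eq_true, Bool.not_eq_true'] at hblock
  have hB : B.ncard = R.N := by
    rcases hblock _ hmem with (h | h) | h
    · exfalso
      -- B = {z}: then N fixes every point
      rw [Nat.eq_of_beq_eq_true h] at hcardB
      obtain ⟨a, ha⟩ := Set.ncard_eq_one.1 hcardB
      apply hne
      rw [Subgroup.eq_bot_iff_forall]
      intro n hn
      apply hinj
      rw [map_one]
      refine Equiv.ext fun j => ?_
      obtain ⟨g, rfl⟩ := htr j
      have h2 : φ (g⁻¹ * n * g) z ∈ B := ⟨⟨_, hN'.conj_mem' n hn g⟩, rfl⟩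
      have haz : z = a := by
        rw [ha] at hzB
        simpa using hzB
      rw [ha, Set.mem_singleton_iff, ← haz] at h2
      rw [map_mul, map_mul, Equiv.Perm.mul_apply, Equiv.Perm.mul_apply, map_inv] at h2
      have h3 := congrArg (φ g) h2
      simpa using h3
    · rw [hcardB, Nat.eq_of_beq_eq_true h]
    · exfalso
      rw [← hcardB, Nat.mod_eq_zero_of_dvd hdvd] at h
      simp [Nat.beq_refl] at h
  have hNcard : R.N ∣ Nat.card N := by
    rw [← hB, ← MulAction.index_stabilizer N z]
    exact Subgroup.index_dvd_card _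
  have hidx : ¬ p ∣ N.index := by
    intro h
    apply hpk'
    rw [← N.card_mul_index, pow_succ]
    exact Nat.mul_dvd_mul (hpk.trans hNcard) h
  have hgood := Rep.perm_good hR
  have hevW : ∀ w : List ℕ, (∀ y ∈ w, y < R.A.eps) → φ (evW ev w) = evW (R.perm hR) w := by
    intro w hw
    simp only [evW, map_list_prod, List.map_map]
    rw [List.map_congr_left (f := ⇑φ ∘ ev) (g := R.perm hR) fun y hy => hφ y (hw y hy)]
  have hlets : ∀ w, R.relsOK [w] = true → ∀ y ∈ w, y < R.A.eps := by
    intro w h y hy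
    simp only [Rep.relsOK, List.all_eq_true, Bool.and_eq_true, List.mem_singleton, forall_eq] at h
    have := h.1 y hy
    rwa [Nat.blt_eq] at this
  have hu : ∀ y ∈ u, y < R.A.eps := by
    intro y hy
    apply hlets _ hup y
    simp only [wpow, List.mem_flatten, List.mem_replicate]
    exact ⟨u, ⟨hp.ne_zero, rfl⟩, hy⟩
  have hupow : evW ev u ^ p = 1 := by
    apply hinj
    rw [map_pow, hevW u hu, ← evW_wpow, map_one]
    exact Rep.evW_eq_one hR hup (by simp)
  have huN : evW ev u ∈ N := by
    rw [← QuotientGroup.eq_one_iff]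
    have h1 : orderOf ((evW ev u : G) : G ⧸ N) ∣ p :=
      orderOf_dvd_of_pow_eq_one (by rw [← QuotientGroup.mk_pow, hupow, QuotientGroup.mk_one])
    have h2 : orderOf ((evW ev u : G) : G ⧸ N) ∣ N.index := by
      rw [Subgroup.index_eq_card]
      exact orderOf_dvd_natCard _
    rcases (Nat.dvd_prime hp).1 h1 with h | h
    · exact orderOf_eq_one_iff.1 h
    · exact absurd (h ▸ h2) hidx
  exact huN

/-- suborbits of the point stabiliser -/
def orbits : List HOrbit :=
  [⟨0, 9, 0x18000007c0007803865, 18⟩, ⟨1, 14, 0x4000080000000000000000000030301858218c31fc001a3780000000000000000007dc3fa2fc7ff04fb87f7e05f8ffe000000000000fe3fe3eff0bf8fff1f7fc000000fdf9ff07df9ff8000ffdf02ff7c07fe03ff1f803f380ec39a, 288⟩, ⟨10, 18, 0x7fffffffffffffffffffffbffff7ffffffffffffffffffffcfcfe7a7de73ce03ffe5c87ffffffffffffffffff823c05d03800fb0478081fa07001ffffffffffff01c01c100f407000e0803ffffff020600f8206007fff0020f90083f8007c00e003c0c0710400, 512⟩]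

/-- generators of the point stabiliser -/
def stabWords : List (List ℕ) := [[0], [4], [6], [8], [10], [12]]

/-- an element of order thirteen -/
def u13 : List ℕ := [6, 10, 0, 2, 8, 4]

/-- the first generator as a product of conjugates of powers of it -/
def aWord : List ℕ :=
  ([5, 11, 2, 0, 4, 6, 3, 4] ++ wpow u13 2 ++ [5, 2, 7, 5, 1, 3, 10, 4]) ++
    ([2, 9, 4, 2, 9, 7, 0, 10, 0, 5, 5, 9, 0, 2] ++ wpow u13 2 ++ [3, 1, 8, 4, 4, 1, 11, 1, 6, 8, 3, 5, 8, 3])

theorem aWord_ok : P819.rep.relsOK [aWord ++ [1]] = true ∧ P819.rep.relsOK [wpow u13 13] = true := by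
  decide +kernel

theorem phi_transitive (j : Fin P819.rep.N) : ∃ g : HT, phi g ⟨106, by decide⟩ = j := by
  have hok : orbitOK P819.rep ((List.range 14).map fun x => [x]) 106 16 (ones 819) = true := by decide +kernel
  obtain ⟨g, -, hg⟩ := (orbit_eq_of_ok P819.rep_valid hok phi phi_ev (H := Subgroup.closure
    ((fun w => evW hev w) '' {w | w ∈ (List.range 14).map fun x => [x]})) rfl (by decide) j).2
    (by rw [testBit_ones]; exact decide_eq_true j.2)
  exact ⟨g, hg⟩

theorem stab_fix {g : HT} (hg : g ∈ Subgroup.closure ((fun w => evW hev w) '' {w | w ∈ stabWords})) :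
    phi g ⟨106, by decide⟩ = (⟨106, by decide⟩ : Fin P819.rep.N) := by
  induction hg using Subgroup.closure_induction with
  | mem y hy =>
    obtain ⟨w, hw, rfl⟩ := hy
    have hfix : (stabWords.all fun w => small w && Nat.beq (trace w 106) 106) = true := by decide +kernel
    have h := List.all_eq_true.1 hfix w hw
    rw [Bool.and_eq_true] at h
    have e : (phi (evW hev w))⁻¹ (⟨106, by decide⟩ : Fin P819.rep.N) = ⟨106, by decide⟩ :=
      Fin.ext ((trace_spec h.1 _).trans (Nat.eq_of_beq_eq_true h.2))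
    exact ((Equiv.Perm.inv_eq_iff_eq).1 e).symm
  | one => simp
  | mul y z _ _ ihy ihz => rw [map_mul, Equiv.Perm.mul_apply, ihz, ihy]
  | inv y _ ih =>
    rw [map_inv, Equiv.Perm.inv_eq_iff_eq]
    exact ih.symm

/-- A nontrivial normal subgroup contains the first generator. -/
theorem a_mem_normal (N : Subgroup HT) (hN : N.Normal) (hne : N ≠ ⊥) : hev 0 ∈ N := by
  have hu : evW hev u13 ∈ N :=
    mem_normal_of_cert P819.rep_valid (p0 := 106) (by decide) phi phi_ev phi_injective phi_transitive rfl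
      (fun h hh => stab_fix hh) orbits (by decide +kernel) (by decide +kernel) (by decide +kernel) 13 1
      (by norm_num) (by decide) (by rw [card_HT]; norm_num) u13 aWord_ok.2 N hN hne
  have h1 := hev_eq_one aWord_ok.1
  have e1 : hev 1 = (hev 0)⁻¹ := rfl
  rw [evW_append, evW_cons, evW_nil, mul_one, e1, mul_inv_eq_one] at h1
  rw [← h1]
  have hi : ∀ w : List ℕ, small w = true → evW hev (invWord alphabet w) = (evW hev w)⁻¹ := fun w hw => by
    simp only [small, List.all_eq_true, Nat.blt_eq] at hw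
    exact evW_invWord (letters_good (extra := hExtra)) fun y hy => (hw y hy).le
  rw [show aWord = ([5, 11, 2, 0, 4, 6, 3, 4] ++ wpow u13 2 ++ invWord alphabet [5, 11, 2, 0, 4, 6, 3, 4]) ++
      ([2, 9, 4, 2, 9, 7, 0, 10, 0, 5, 5, 9, 0, 2] ++ wpow u13 2 ++ invWord alphabet [2, 9, 4, 2, 9, 7, 0, 10, 0, 5, 5, 9, 0, 2]) by decide +kernel]
  rw [evW_append, evW_append, evW_append, evW_append, evW_append, hi _ (by decide +kernel), hi _ (by decide +kernel)]
  exact N.mul_mem (hN.conj_mem _ (by rw [evW_wpow]; exact N.pow_mem hu _) _)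
    (hN.conj_mem _ (by rw [evW_wpow]; exact N.pow_mem hu _) _)

end CfsgLib.ThMult
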