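import Mathlib.GroupTheory.Subgroup.Center
import Mathlib.Tactic.Group

/-!
Elementary identities for lifts of group elements to a central extension.
-/
set_option autoImplicit false

namespace CfsgLib.ThMult

variable {G : Type*} [Group G]

/-- a conjugate differing by a central element from the element itself: the difference is killed by its order -/
theorem pow_eq_one_of_conj {g x k : G} (hk : ∀ y, Commute k y) {n : ℕ} (h : g⁻¹ * x * g = x * k)
    (hx : g⁻¹ * x ^ n * g = x ^ n) : k ^ n = 1 := by
  have h1 : (g⁻¹ * x * g) ^ n = g⁻¹ * x ^ n * g := by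
    simpa using conj_pow (a := g⁻¹) (b := x) (i := n)
  rw [h, (hk x).symm.mul_pow, hx] at h1
  exact mul_left_cancel (h1.trans (mul_one _).symm)

/-- the same for the conjugating element -/
theorem pow_eq_one_of_conj' {g x k : G} (hk : ∀ y, Commute k y) (h : g⁻¹ * x * g = x * k) :
    ∀ n : ℕ, (g ^ n)⁻¹ * x * g ^ n = x * k ^ n
  | 0 => by simp
  | n + 1 => by
    have ih := pow_eq_one_of_conj' hk h n
    rw [pow_succ g, mul_inv_rev]
    calc g⁻¹ * (g ^ n)⁻¹ * x * (g ^ n * g) = g⁻¹ * ((g ^ n)⁻¹ * x * g ^ n) * g := by group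
      _ = g⁻¹ * x * (k ^ n * g) := by rw [ih]; group
      _ = g⁻¹ * x * g * k ^ n := by rw [((hk g).pow_left n).eq]; group
      _ = x * k ^ (n + 1) := by rw [h, pow_succ', mul_assoc]

/-- a central element whose seventh power and square are trivial -/
theorem eq_one_of_seven_two {k : G} (h7 : k ^ 7 = 1) (h2 : k ^ 2 = 1) : k = 1 := by
  calc k = k ^ 7 * ((k ^ 2) ^ 3)⁻¹ := by group
    _ = 1 := by rw [h7, h2]; simp

/-- a central element whose cube and square are trivial -/
theorem eq_one_of_three_two {k : G} (h3 : k ^ 3 = 1) (h2 : k ^ 2 = 1) : k = 1 := by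
  calc k = k ^ 3 * (k ^ 2)⁻¹ := by group
    _ = 1 := by rw [h3, h2]; simp

/-- the value of a dihedral relator in a central extension is a sign -/
theorem sq_eq_one_of_dihedral {x y p r : G} (hpc : ∀ g, Commute p g) (hrc : ∀ g, Commute r g)
    (hx : x * x = p) (hy : y * y = r) {n : ℕ} (hm : ∀ g, Commute ((x * y) ^ n) g)
    (hpr : (p * r) ^ n = 1) : (x * y) ^ n * (x * y) ^ n = 1 := by
  have h1 : (y * x) ^ n = (x * y) ^ n := by
    have h := conj_pow (a := x⁻¹) (b := x * y) (i := n)
    rw [inv_inv] at h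
    rw [show x⁻¹ * (x * y) * x = y * x by group] at h
    rw [h, (hm x⁻¹).symm.eq, inv_mul_cancel_right]
  have h2 : (x * y) * (y * x) = p * r := by
    calc (x * y) * (y * x) = x * (y * y) * x := by group
      _ = p * r := by rw [hy, mul_assoc, (hrc x).eq, ← mul_assoc, hx]
  have hc : Commute (x * y) (y * x) := by
    show x * y * (y * x) = y * x * (x * y)
    rw [h2]
    calc p * r = r * p := (hpc r).eq
      _ = y * (x * x) * y := by rw [hx, mul_assoc, (hpc y).eq, ← mul_assoc, hy]
      _ = y * x * (x * y) := by group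
  calc (x * y) ^ n * (x * y) ^ n = (x * y) ^ n * (y * x) ^ n := by rw [h1]
    _ = 1 := by rw [← hc.mul_pow, h2, hpr]

end CfsgLib.ThMult
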