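import Cfsg.Agent.Lib.ThMult.Shift

/-! Generated certificate: shifted records, closed scans, and their combinations. -/
set_option autoImplicit false
set_option maxRecDepth 8000

namespace CfsgLib.ThMult.Data

open CfsgLib.Presented CfsgLib.Th CfsgLib.ThMult

/-- the records -/
def recs : ATree Rec :=
(.node (.node (.node (.node (.node (.node (.leaf (.edge 0 [] 1 [] (.dfn 1) [] []))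
 (.leaf (.edge 2 [] 1 [3, 0, 4, 2, 2] (.rev 4) [] [])))
 (.leaf (.edge 2 [7, 5, 7, 3, 5, 7, 1, 3] 1 [8, 2, 0, 6, 4, 2, 8, 0, 9, 3, 5, 7, 1, 3, 8, 3, 0, 4, 2, 2, 0, 6, 4, 2, 8, 0, 9, 3, 5, 7, 1, 3, 8, 3, 0, 4, 2, 2, 0, 6, 4, 2, 8, 0, 9, 3, 5, 7, 1, 3, 3, 0, 4, 2, 2, 0, 6, 4, 2, 8, 6, 4, 6] (.scan ⟨6, 1, 2, 0, [], [⟨0, [], []⟩, ⟨4, [11, 13, 25], [0, 4, 12, 4, 8, 12, 4, 12]⟩], [⟨0, [], []⟩]⟩) [] [0, 4, 8, 12, 4, 8, 12])))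
 (.node (.leaf (.edge 2 [1, 3] 1 [2, 0, 6, 4, 2, 8, 0, 9, 3, 5, 7, 1, 3, 4, 8, 3, 0, 4, 2, 2, 0, 6, 4, 2, 8, 0, 9, 3, 5, 7, 1, 3, 8, 3, 0, 4, 2, 2, 0, 6, 4, 2, 6, 4, 6] (.scan ⟨6, 0, 2, 0, [], [⟨0, [], []⟩, ⟨4, [15, 13, 11, 15, 13], [4, 8, 12, 2, 8]⟩], [⟨0, [], []⟩]⟩) [] [0, 4, 8, 12, 4, 8, 12, 4]))
 (.leaf (.stab 2 [12, 10, 10, 8, 11, 11] (.cmp 4 4 [11, 11, 29, 25, 47, 25] [10, 6])))))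
 (.node (.node (.node (.leaf (.edge 1 [3] 2 [] (.dfn 2) [] []))
 (.leaf (.stab 4 [8, 3, 0, 4, 2] (.scan ⟨9, 0, 3, 4, [], [⟨25, [], []⟩, ⟨11, [29], [6]⟩, ⟨21, [], [0, 2, 7]⟩], []⟩))))
 (.leaf (.edge 2 [10] 4 [11] (.rev 19) [] [0, 2])))
 (.node (.leaf (.stab 1 [0] (.cmp 0 0 [] [0])))
 (.leaf (.edge 4 [11, 7, 5, 7, 9, 3, 5, 7, 1, 3] 4 [13, 10, 10, 8, 11, 11, 13, 2, 0, 6, 4, 2, 8, 0, 9, 3, 5, 7, 1, 3, 4, 3, 0, 4, 2, 10, 10, 8, 11, 11, 13, 2, 0, 6, 4, 2, 8, 0, 9, 3, 5, 7, 1, 3, 10, 10, 8, 11, 11, 6, 10, 13] (.scan ⟨9, 0, 2, 4, [12, 2, 0, 6, 4, 2, 8, 0, 9, 3, 5, 7, 1, 3, 3, 0, 4, 2, 10, 10, 8, 11, 11, 13, 10, 10, 8, 11, 11, 6, 11, 13], [⟨26, [], []⟩, ⟨27, [], [6, 10, 7, 12, 10, 12, 10, 6, 10]⟩], []⟩) [] [2, 6, 10, 12, 10,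 7, 10, 12, 10, 12])))))
 (.node (.node (.node (.node (.leaf (.edge 1 [11] 1 [0, 4, 10] (.scan ⟨9, 0, 1, 0, [], [⟨0, [], []⟩], [⟨0, [], []⟩]⟩) [] [0, 2]))
 (.leaf (.edge 1 [7, 3] 3 [3, 0, 4, 2, 2, 0, 6, 4, 2, 8, 0, 9, 3, 5, 7, 1, 3, 8, 2, 0, 6, 4, 2, 8, 0, 9, 3, 5, 7, 1, 3, 8, 3, 0, 4, 2, 2, 0, 6, 4, 2, 8, 0, 9, 3, 5, 7, 1, 3, 8, 2, 0, 6, 4, 2, 6] (.rev 33) [15] [2, 12, 4, 12, 4])))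
 (.leaf (.stab 2 [0, 2, 0, 6, 4, 2, 8, 0, 9, 3, 5, 7, 1, 3, 8, 3, 0, 4, 2, 2, 0, 6, 4, 2, 8, 0, 9, 3, 5, 7, 1, 3, 8, 2, 0, 6, 4, 2, 8, 0, 9, 3, 5, 7, 1, 3, 2, 0, 6, 8] (.cmp 17 9 [] []))))
 (.node (.leaf (.edge 1 [7, 3] 3 [] (.dfn 3) [] []))
 (.leaf (.edge 4 [11, 13, 7, 5, 7, 9, 10, 3, 5, 7, 1, 3] 4 [13, 3, 0, 4, 2, 2, 0, 6, 4, 2, 8, 0, 9, 3, 5, 7, 1, 3, 8, 3, 0, 4, 2, 2, 0, 6, 4, 2, 8, 0, 9, 3, 5, 7, 1, 3, 10, 10, 8, 11, 11, 13, 2, 0, 6, 4, 2, 8, 0, 9, 3, 5, 7, 1, 3, 6, 11, 11] (.scan ⟨11, 0, 0, 4, [12, 2, 0, 6, 4, 2, 8, 0, 9, 3, 5, 7, 1, 3, 3, 0, 4, 2, 10, 10, 8, 11, 11, 13, 10, 10, 8, 11, 11, 6, 11, 13], [], [⟨25, [], [2, 7, 8, 12, 8, 10, 12, 4, 12]⟩, ⟨4, [13, 47, 13, 15, 13, 47, 13], [0, 4, 8, 10, 12, 8, 10, 6,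 12, 4, 10]⟩, ⟨20, [31, 37, 37, 49, 37, 31], [4, 7, 8, 12, 4, 8, 10, 12, 10, 12]⟩]⟩) [] []))))
 (.node (.node (.leaf (.stab 1 [3, 0, 4, 2, 2, 0, 6, 4, 2, 8, 0, 9, 3, 5, 7, 1, 3, 8, 3, 0, 4, 2, 2, 0, 6, 4, 2, 8, 0, 9, 3, 5, 7, 1, 3, 3, 0, 4, 2] (.cmp 0 0 [] [12])))
 (.leaf (.edge 4 [10] 4 [8, 13, 3, 0, 4, 2, 11] (.rev 21) [] [0, 2, 4, 7, 8, 10])))
 (.node (.leaf (.stab 1 [12] (.cmp 0 0 [] [6])))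
 (.leaf (.edge 2 [10, 1, 3] 1 [10, 10, 8, 11, 11, 12, 2, 0, 6, 4, 2, 8, 0, 9, 3, 5, 7, 1, 3, 10, 10, 8, 11, 11, 13, 2, 0, 6, 4, 2, 8, 0, 9, 3, 5, 7, 1, 3, 8, 3, 0, 4, 2, 10, 10, 8, 11, 11, 2, 0, 6, 4, 2, 8, 10, 8, 6, 4, 6, 13] (.scan ⟨9, 0, 1, 2, [0, 2, 11], [⟨29, [], []⟩], [⟨8, [], []⟩]⟩) [37, 37, 31] [7, 10, 6, 12, 10, 7, 12, 4, 8]))))))
 (.node (.node (.node (.node (.node (.leaf (.edge 1 [] 0 [] (.rev 0) [] []))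
 (.leaf (.edge 3 [5, 7, 9, 3, 5, 7, 1, 3] 1 [3, 0, 4, 2, 2, 0, 6, 4, 6, 8, 6, 4] (.scan ⟨6, 0, 2, 2, [0, 2], [⟨8, [], []⟩, ⟨10, [27, 13, 15], [12, 2]⟩], [⟨32, [49, 49, 49, 37], [8, 12, 4, 8, 12, 4]⟩]⟩) [] [8, 12, 4, 8, 12, 8])))
 (.leaf (.edge 1 [7] 2 [8, 3, 0, 4, 2, 2, 0, 6, 4, 2, 8, 0, 9, 3, 5, 7, 1, 3, 8, 3, 0, 4, 2, 2, 0, 6, 4, 2, 8, 0, 9, 3, 5, 7, 1, 3, 8, 2, 0, 6, 4, 2, 6, 4, 6] (.rev 16) [] [12, 2, 4, 8, 12, 4])))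
 (.node (.leaf (.edge 1 [7] 2 [8, 2, 0, 6, 4, 2, 8, 0, 9, 3, 5, 7, 1, 3, 4, 8, 3, 0, 4, 2, 2, 0, 6, 4, 2, 8, 0, 9, 3, 5, 7, 1, 3, 8, 2, 0, 6, 4, 2, 8, 6] (.rev 8) [11] [8, 12, 2, 4, 8]))
 (.leaf (.edge 4 [] 1 [3, 0, 4, 2, 2, 11] (.rev 11) [] []))))
 (.node (.node (.leaf (.stab 1 [8, 3, 0, 4, 2] (.cmp 0 0 [] [8])))
 (.leaf (.edge 4 [11, 11] 4 [0, 4, 8, 3, 0, 4, 2, 10, 13] (.scan ⟨9, 0, 1, 2, [10], [⟨20, [], []⟩], [⟨20, [31], [8, 10, 6, 10]⟩]⟩) [] [0, 2])))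
 (.node (.leaf (.stab 1 [4] (.cmp 0 0 [] [2])))
 (.leaf (.edge 2 [11, 1, 3] 2 [0, 2, 0, 6, 4, 2, 8, 0, 9, 3, 5, 7, 1, 3, 8, 2, 0, 6, 4, 2, 8, 0, 9, 3, 5, 7, 1, 3, 3, 0, 4, 2, 10, 10, 8, 11, 11, 12, 10, 10, 8, 11, 11, 2, 0, 6, 4, 2, 8, 0, 9, 3, 5, 7, 1, 3, 8, 3, 0, 4, 2, 6, 11, 11] (.scan ⟨4, 1, 0, 2, [0, 2, 11], [], [⟨20, [49, 49, 49, 37], [7, 8, 12, 4, 8, 10, 12, 4, 10, 6]⟩, ⟨28, [], [4, 12, 4, 12, 10, 12, 10]⟩, ⟨19, [], [12, 4, 8, 10, 12, 10, 7]⟩]⟩) [] [])))))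
 (.node (.node (.node (.node (.leaf (.edge 1 [10] 1 [11] (.rev 2) [] [0, 2]))
 (.leaf (.stab 3 [3, 0, 4, 2, 2, 0, 6, 4, 2, 8, 0, 9, 3, 5, 7, 1, 3, 8, 2, 0, 6, 4, 2, 8, 0, 9, 3, 5, 7, 1, 3, 8, 3, 0, 4, 2, 2, 0, 6, 4, 2, 8, 0, 9, 3, 5, 7, 1, 3, 8, 2, 0, 6, 4, 2, 6] (.cmp 34 10 [] []))))
 (.leaf (.edge 4 [11] 2 [0, 4, 10] (.scan ⟨9, 0, 1, 1, [2, 11], [⟨11, [], []⟩], [⟨4, [], []⟩]⟩) [] [0, 2])))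
 (.node (.leaf (.edge 1 [11, 3] 4 [] (.dfn 4) [] []))
 (.leaf (.edge 4 [11, 7, 5, 7, 9, 11, 3, 5, 7, 1, 3] 4 [0, 8, 10, 10, 8, 11, 11, 13, 2, 0, 6, 4, 2, 8, 0, 9, 3, 5, 7, 1, 3, 8, 3, 0, 4, 2, 2, 0, 6, 4, 2, 8, 0, 9, 3, 5, 7, 1, 3, 10, 10, 8, 11, 11, 6, 10, 13] (.scan ⟨4, 1, 0, 4, [12, 2, 0, 6, 4, 2, 8, 0, 9, 3, 5, 7, 1, 3, 3, 0, 4, 2, 10, 10, 8, 11, 11, 13, 10, 10, 8, 11, 11, 6, 10, 10], [], [⟨21, [], [2, 6, 12, 8, 10, 7]⟩, ⟨26, [], [4, 8, 12, 4, 8, 12, 4, 8, 10, 12, 10]⟩, ⟨22, [], [0, 4, 6, 10, 12, 8, 10, 12, 4, 12]⟩]⟩) [] []))))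
 (.node (.node (.leaf (.stab 1 [8] (.cmp 0 0 [] [4])))
 (.leaf (.stab 1 [10, 10, 8, 11, 11] (.cmp 0 0 [] [10]))))
 (.node (.leaf (.stab 2 [8, 12, 3, 0, 4, 2] (.cmp 4 4 [29, 15, 15, 27, 25] [6, 8])))
 (.leaf (.edge 1 [10, 7] 1 [4, 8, 2, 0, 6, 4, 2, 8, 0, 9, 3, 5, 7, 1, 3, 10, 10, 8, 11, 11, 2, 0, 6, 4, 2, 8, 0, 9, 3, 5, 7, 1, 3, 3, 0, 4, 2, 10, 10, 8, 11, 11, 2, 0, 6, 4, 2, 8, 0, 9, 3, 5, 7, 1, 3, 10, 10, 8, 11, 11, 6, 11, 8, 11] (.scan ⟨9, 0, 1, 2, [0, 2, 10], [⟨30, [], []⟩], [⟨30, [31], [0, 2, 8, 10, 6, 10]⟩]⟩) [11] [8, 10, 6, 10, 12, 2, 10, 6, 10])))))))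

/-- the orbits -/
def defs : List (ℕ × List ℕ) := [(0, []), (0, []), (1, [3]), (1, [7, 3]), (1, [11, 3]), (1, [11, 7, 3]), (1, [10, 7, 3]), (2, [7]), (2, [11, 7]), (3, [10, 9, 10, 9, 7, 3]), (4, [12, 7, 5, 7, 9, 10, 9, 7, 5, 7, 3])]

/-- the shifts -/
def vecs : List (List ℤ) := [
  [],
  [1],
  [(-1), 0, 0, 0, 0, 0, 0, 0, 0, 1, 0, 0, (-1), (-1)],
  [2, 0, 0, 0, 0, 0, 0, 0, 0, (-1)],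
  [],
  [0, 0, 0, 0, 0, 0, 0, 0, 0, 0, 0, 0, 0, 0, 0, 0, 1],
  [0, 0, 0, 0, 0, 0, 0, 0, 0, 0, 0, 0, 0, 0, 0, 0, 0, 0, 1],
  [0, 0, 0, 0, 0, 0, 0, 0, 0, 0, 0, 0, 0, 0, 1],
  [(-1), 0, 0, 0, 0, 0, 1, 0, 0, 0, 0, 0, (-1), (-1), (-2), 0, (-3), 0, (-1)],
  [2, 0, 0, 0, 0, 0, (-1), 0, 0, 0, 0, 0, 1, 0, 1, 0, 2],
  [],
  [],
  [0, 0, 0, 0, 0, 0, 0, 0, 0, 0, 0, 0, 1],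
  [0, 0, 0, 0, 0, 0, 0, 0, 0, 0, 0, 0, 0, 1],
  [0, 0, 0, 0, 0, 0, 0, 0, 0, 0, 0, 0, 0, 0, 0, 1],
  [0, 0, 0, 0, 0, 0, 0, 0, 0, 0, 0, 0, (-1), (-1), (-2), 0, 1],
  [(-1), 0, 0, 0, 0, 0, 1, 0, 0, 0, 0, 0, (-1), 0, (-5), 0, (-2), 0, (-4)],
  [2, 0, 0, 0, 0, 0, (-1), 0, 0, 0, 0, 0, 1, (-1), 3, 0, 1, 0, 2],
  [0, 0, 0, 0, 0, 0, 0, 0, 0, 0, 0, 0, 0, 1, (-2), 0, 1, 0, (-2)],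
  [(-1), 0, 0, 0, 0, 0, 0, 0, 0, 1, 0, 0, (-1), (-1)],
  [2, 0, 0, 0, 0, 0, 0, 0, 0, (-1)],
  [(-1), 0, 0, 0, 0, 0, 0, 0, 0, 1, 0, 0, 0, 0, 2, 1, 0, 2],
  [2, 0, 0, 0, 0, 0, 0, 0, 0, (-1), 0, 0, (-1), (-1), (-3), 0, (-1), (-3)],
  [0, 0, 0, 0, 0, 0, 0, 0, 0, 0, 0, 0, 0, 0, 0, 0, 0, 1],
  [0, 0, 0, 0, 0, 0, 0, 0, 0, 0, 0, 0, (-2), 0, 0, 0, (-2)],
  [1],
  [0, 0, 0, 0, 0, 0, 0, 0, 0, (-1), 0, 1, 5, 0, 14, (-1), 3, 4, 10],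
  [(-2), 0, 0, 0, 1, 0, 0, 0, 0, (-1), 0, 1, 5, 0, 18, 1, 7, 8, 17],
  [2, 0, 0, 0, (-1), 0, 0, 0, 0, 3, 0, (-2), (-10), (-1), (-32), (-1), (-10), (-20), (-32)],
  [0, 0, 0, 0, 0, 0, 0, 0, 0, 3, 0, (-2), (-5), (-3), (-25), (-2), (-2), (-14), (-23)],
  [(-2), 0, 0, 0, 0, 0, 1, 0, 0, (-2), 0, 2, 3, 3, 16, 3, 1, 12, 16],
  [(-1), 0, 0, 0, 0, 0, 0, 0, 0, 1, 0, 0, 2, 1, 2, (-1), 0, (-2), (-1)],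
  [1],
  [1, 0, 0, 0, 0, 0, 0, 0, 0, 0, 0, 0, 7, 0, 6, 0, 7, 0, 3],
  [0, 0, 0, 0, 0, 0, 0, 0, 0, 0, 0, 0, (-7), (-1), (-7), 0, (-7), 0, (-5)],
  [0, 0, 0, 0, 0, 0, 0, 0, 0, 0, 0, 0, 7, 1, 7, 0, 7, 0, 5],
  [0, 0, 0, 0, 0, 0, 0, 0, 0, 0, 0, 0, (-1), (-1), (-2), 0, 0, (-2)]]

/-- the certificate -/
def cert : ZCert := ⟨⟨recs, defs⟩, vecs⟩

/-- closed scans with their orbit and stabilising word -/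
def loops : List (Scan × ℕ × List ℕ) := [
  (⟨0, 0, 0, 0, [], [], [⟨0, [], []⟩, ⟨1, [], [0, 2]⟩]⟩, 0, []),
  (⟨1, 0, 0, 0, [], [], [⟨0, [], []⟩, ⟨1, [], [0]⟩]⟩, 0, []),
  (⟨1, 0, 1, 0, [], [⟨0, [], []⟩], [⟨0, [], []⟩]⟩, 1, [24]),
  (⟨2, 0, 0, 0, [], [], [⟨0, [], []⟩, ⟨1, [], [2]⟩]⟩, 0, []),
  (⟨3, 0, 0, 0, [], [], [⟨0, [], []⟩, ⟨1, [], [4]⟩]⟩, 0, []),
  (⟨5, 0, 0, 0, [], [], [⟨0, [], []⟩, ⟨1, [], [8]⟩]⟩, 0, []),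
  (⟨5, 0, 1, 1, [], [⟨1, [], []⟩], [⟨1, [], [4, 8]⟩]⟩, 0, []),
  (⟨7, 0, 0, 0, [], [], [⟨0, [], []⟩, ⟨1, [], [6, 6]⟩]⟩, 0, []),
  (⟨8, 0, 0, 0, [], [], [⟨0, [], []⟩, ⟨1, [], [10]⟩]⟩, 0, []),
  (⟨10, 2, 1, 0, [], [⟨0, [], []⟩], [⟨0, [], []⟩, ⟨2, [], []⟩, ⟨3, [29], [0, 2, 6]⟩, ⟨3, [29, 29], [0, 2, 6]⟩, ⟨3, [], [6, 6]⟩, ⟨3, [29], [6, 6]⟩, ⟨2, [29, 29], [0, 2]⟩]⟩, 1, []),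
  (⟨6, 0, 2, 0, [], [⟨0, [], []⟩, ⟨4, [15, 13, 15, 11, 13], [4, 8, 12, 2, 8]⟩], [⟨0, [], []⟩, ⟨9, [11], [12, 2]⟩]⟩, 2, []),
  (⟨6, 3, 0, 0, [], [], [⟨0, [], []⟩, ⟨4, [11, 13], [0, 4, 8, 12, 4, 8, 12, 4]⟩, ⟨8, [], [0, 4, 8, 12, 8]⟩, ⟨1, [], [12, 4, 12, 4, 8]⟩]⟩, 0, []),
  (⟨4, 0, 1, 0, [], [⟨0, [], []⟩], [⟨0, [], []⟩, ⟨9, [], [12, 2]⟩, ⟨8, [37], [4, 12, 8]⟩]⟩, 1, [14, 12, 10, 14, 12, 14, 12]),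
  (⟨9, 0, 1, 4, [], [⟨25, [], []⟩], [⟨22, [], []⟩, ⟨25, [], [4, 6, 6, 8]⟩]⟩, 1, [24, 26, 28, 28]),
  (⟨9, 0, 0, 4, [], [], [⟨22, [], []⟩, ⟨25, [], [4, 6, 6, 8]⟩, ⟨11, [29, 29], [0, 2, 8]⟩]⟩, 4, [72]),
  (⟨6, 1, 1, 3, [], [⟨33, [71], [2, 4, 12, 4, 12]⟩], [⟨33, [71, 71], [8, 12, 4, 8, 12, 8]⟩, ⟨4, [], [2, 12, 4]⟩, ⟨32, [37, 37, 37], [4, 12, 4, 8]⟩]⟩, 1, [12, 10, 14, 12, 10, 14, 26, 12]),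
  (⟨11, 0, 1, 0, [], [⟨0, [], []⟩], [⟨0, [], []⟩, ⟨31, [29, 29], [0, 6, 6, 12]⟩, ⟨31, [47, 29, 47, 15, 11], [6, 6, 12, 2, 8, 10, 12, 4, 12, 8]⟩]⟩, 1, [28, 46, 12, 46, 28, 46, 12, 10, 46]),
  (⟨11, 0, 2, 0, [], [⟨0, [], []⟩, ⟨31, [29, 29], [6, 6]⟩], [⟨0, [], []⟩, ⟨31, [29, 29], [0, 6, 6, 12]⟩]⟩, 1, [12, 14, 12, 28, 46, 28, 28])]

/-- combinations of the equations giving the unit vectors -/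
def combos : List (List ℤ) := [
  [(-80863), 9412, (-9412), 0, 0, 34849, (-34849), 0, 0, 0, 6275, (-4183), 0, (-23701), 71111, 8366, (-1), 1, 2],
  [(-92811), 10803, (-10802), 0, 0, 39999, (-39999), 0, 0, 0, 7202, (-4801), 0, (-27203), 81617, 9602, (-1), 1, 2],
  [(-80748), 9399, (-9399), 1, 0, 34799, (-34799), 0, 0, 0, 6266, (-4177), 0, (-23667), 71009, 8354, (-1), 1, 2],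
  [(-80863), 9412, (-9412), 0, 1, 34850, (-34850), 0, 0, 0, 6275, (-4183), 0, (-23701), 71111, 8366, (-1), 1, 2],
  [(-129519), 15075, (-15075), 0, 0, 55815, (-55815), 0, 0, 0, 10051, (-6700), 1, (-37962), 113902, 13400, (-2), 2, 4],
  [(-97024), 11293, (-11293), 0, 0, 41816, (-41815), 0, 0, 0, 7529, (-5019), 0, (-28438), 85322, 10038, (-1), 1, 2],
  [(-116649), 13578, (-13578), 0, 0, 50269, (-50269), 0, 0, 0, 9052, (-6034), 0, (-34190), 102586, 12069, (-2), 2, 4],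
  [(-80863), 9412, (-9412), 0, 0, 34849, (-34849), 1, 0, 0, 6275, (-4183), 0, (-23701), 71111, 8366, (-1), 1, 2, (-2)],
  [(-84961), 9889, (-9889), 0, 0, 36615, (-36615), 0, 1, 0, 6593, (-4395), 0, (-24902), 74715, 8790, (-1), 1, 2],
  [(-80863), 9412, (-9412), 0, 0, 34849, (-34849), 0, 0, 0, 6275, (-4183), 0, (-23701), 71111, 8366, (-1), 1, 3],
  [(-230526), 26832, (-26832), 0, 0, 99347, (-99347), 0, 0, 1, 17889, (-11925), 0, (-67567), 202725, 23850, (-3), 3, 8],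
  [(-145622), 16949, (-16949), 0, 0, 62757, (-62757), 0, 0, 0, 11301, (-7533), 0, (-42682), 128061, 15066, (-2), 3, 4, 3],
  [(-11948), 1391, (-1391), 0, 0, 5150, (-5150), 0, 0, 0, 927, (-618), 0, (-3502), 10506, 1236],
  [(-115), 13, (-13), 0, 0, 50, (-50), 0, 0, 0, 9, (-6), 0, (-34), 102, 12],
  [0, 0, 0, 0, 0, (-1), 1],
  [0, 0, 0, 0, 0, 0, 0, 0, 0, 0, 0, 0, 0, 0, 0, 0, 0, 0, 0, 1],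
  [16161, (-1881), 1881, 0, 0, (-6966), 6966, 0, 0, 0, (-1254), 836, 0, 4737, (-14211), (-1672)],
  [4098, (-477), 477, 0, 0, (-1766), 1766, 0, 0, 0, (-318), 212, 0, 1201, (-3604), (-424)],
  [58, (-7), 7, 0, 0, (-24), 24, 0, 0, 0, (-4), 3, 0, 17, (-51), (-6)]]

/-- number of records -/
def size : ℕ := 37

end CfsgLib.ThMult.Data
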