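import Cfsg.Agent.Lib.ThMult.ShiftSound
import Cfsg.Agent.Lib.ThMult.Data

/-!
The closed scans force every unknown central value to vanish.
-/
set_option autoImplicit false
set_option maxRecDepth 8000

namespace CfsgLib.ThMult

open CfsgLib.Presented CfsgLib.Th

/-- every record passes -/
noncomputable def recsOK (d : ZCert) (n : ℕ) : Bool :=
  (List.range n).all fun m => recScanOK (d.base.recs.get m) && d.base.chk m &&
    vsame (d.recV (d.base.recs.get m)) (d.V m)

/-- check a closed scan among the first `n` records -/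
noncomputable def loopOK (d : ZCert) (n : ℕ) (p : Scan × ℕ × List ℕ) : Bool :=
  scanOK p.1 &&
    match d.base.scanStab n p.1 with
    | some (f, b) => Nat.beq f.1 p.2.1 && Nat.beq b.1 p.2.1 && (Nat.beq p.2.1 0 ||
        match d.base.kWord n p.2.1 p.2.2 with
        | some w => same (w ++ b.2) f.2
        | none => false)
    | none => false

/-- the equation of a closed scan -/
noncomputable def loopV (d : ZCert) (p : Scan × ℕ × List ℕ) : List ℤ :=
  vsub (d.scanV p.1) (d.canonV p.2.1 p.2.2)

/-- linear combination -/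
def combine : List ℤ → List (List ℤ) → List ℤ
  | c :: cs, v :: vs => vadd (vsmul c v) (combine cs vs)
  | _, _ => []

/-- all equations -/
noncomputable def allEqs : List (List ℤ) :=
  Data.loops.map (loopV Data.cert) ++ [vsub (vunit 9) (vunit 0), vunit 15]

theorem data_recs : recsOK Data.cert Data.size = true := by decide +kernel

theorem data_loops : Data.loops.all (loopOK Data.cert Data.size) = true := by decide +kernel

theorem data_combos : ((List.range 19).all fun t =>
    vsame (combine (Data.combos.getD t []) allEqs) (vunit t)) = true := by decide +kernel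

variable {Γ : Type} [Group Γ] {σ : Γ →* Cfsg.Spor.Th} (L : Lifts σ) (hc : σ.ker ≤ Subgroup.center Γ)

include hc

theorem Lifts.holds_all (d : ZCert) {N : ℕ} (h : recsOK d N = true) : ∀ k, k < N → L.Holds d k := by
  simp only [recsOK, List.all_eq_true, List.mem_range, Bool.and_eq_true] at h
  intro k
  induction k using Nat.strong_induction_on with
  | _ k IH =>
    intro hk
    exact Lifts.chk_sound L hc (fun m hm => IH m hm (hm.trans hk)) (h k hk).1.1 (h k hk).1.2 (h k hk).2

theorem Lifts.fixed_val (hfree : ∀ x, σ (L.h x) = 1 → L.h x = 1) {q : Γ ⧸ L.h.range} {v : List ℤ}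
    (h : L.rt q (L.val v) = q) : L.val v = 1 := by
  induction q using Quotient.inductionOn' with
  | h g =>
    change L.rt ((g : Γ) : Γ ⧸ L.h.range) (L.val v) = ((g : Γ) : Γ ⧸ L.h.range) at h
    rw [Lifts.rt, MulAction.Quotient.smul_coe, smul_eq_mul, QuotientGroup.eq] at h
    have e : ((L.val v)⁻¹ * g)⁻¹ * g = L.val v := by
      rw [mul_inv_rev, inv_inv, mul_assoc, (L.valFrom_comm hc v 0 g).eq, inv_mul_cancel_left]
    rw [e] at h
    obtain ⟨x, hx⟩ := h
    rw [← hx]
    exact hfree x (by rw [hx]; exact L.map_valFrom v 0)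

theorem Lifts.loop_val (hfree : ∀ x, σ (L.h x) = 1 → L.h x = 1) {p : Scan × ℕ × List ℕ}
    (h : loopOK Data.cert Data.size p = true) : L.val (loopV Data.cert p) = 1 := by
  have ih := fun m hm => Lifts.holds_all L hc Data.cert data_recs m hm
  obtain ⟨s, o, ks⟩ := p
  simp only [loopOK, Bool.and_eq_true] at h
  obtain ⟨hok, h⟩ := h
  cases hs : Data.cert.base.scanStab Data.size s with
  | none => simp [hs] at h
  | some r =>
    obtain ⟨⟨f1, f2⟩, ⟨b1, b2⟩⟩ := r
    simp only [hs, Bool.and_eq_true] at h
    obtain ⟨⟨hf, hb⟩, hg⟩ := h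
    obtain rfl := Nat.eq_of_beq_eq_true hf
    obtain rfl := Nat.eq_of_beq_eq_true hb
    have e := Lifts.scanStab_sound L hc ih hok hs
    have e' : L.pt Data.cert (b1, f2) = L.rt (L.pt Data.cert (b1, b2)) (L.val (Data.cert.canonV b1 ks)) := by
      unfold ZCert.canonV
      cases hi : Nat.beq b1 0
      · rw [hi] at hg
        simp only [Bool.false_or] at hg
        cases hk : Data.cert.base.kWord Data.size b1 ks with
        | none => simp [hk] at hg
        | some w =>
          simp only [hk] at hg
          rw [← L.pt_congr _ (u := w ++ b2) (by rw [hg, Bool.or_true]), Lifts.pt, L.hw_append, L.rt_mul,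
            Lifts.kWord_sound L hc ih hk, L.rt_swap hc, cond_false]
          rfl
      · obtain rfl := Nat.eq_of_beq_eq_true hi
        rw [cond_true, Lifts.val, Lifts.valFrom, L.rt_one, L.pt_zero, L.pt_zero]
    rw [e'] at e
    apply Lifts.fixed_val L hc hfree (q := L.pt Data.cert (b1, b2))
    rw [loopV, L.val_vsub hc, L.rt_mul, ← e, ← L.rt_mul, mul_inv_cancel, L.rt_one]

theorem Lifts.combine_val : ∀ (cs : List ℤ) (vs : List (List ℤ)), (∀ v ∈ vs, L.val v = 1) →
    L.val (combine cs vs) = 1
  | [], _, _ => by simp [combine, Lifts.val, Lifts.valFrom]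
  | _ :: _, [], _ => by simp [combine, Lifts.val, Lifts.valFrom]
  | c :: cs, v :: vs, h => by
    have h1 := h v List.mem_cons_self
    have h2 := Lifts.combine_val cs vs fun w hw => h w (List.mem_cons_of_mem _ hw)
    simp only [Lifts.val] at h1 h2 ⊢
    rw [combine, L.valFrom_vadd hc, L.valFrom_vsmul hc, h1, h2, one_zpow, one_mul]

/-- All unknown values are trivial once the scaling is fixed. -/
theorem Lifts.z_eq_one (hfree : ∀ x, σ (L.h x) = 1 → L.h x = 1) (h09 : L.z 9 = L.z 0) :
    ∀ n, n < 19 → L.z n = 1 := by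
  have h15 : L.z 15 = 1 := by
    rw [Lifts.z, if_neg (by decide)]
    show (L.u * L.hw [13])⁻¹ * (L.hw [12] * L.u) = 1
    rw [inv_mul_eq_one]
    exact L.comm_t.symm
  have hall : ∀ v ∈ allEqs, L.val v = 1 := by
    intro v hv
    rw [allEqs, List.mem_append, List.mem_map] at hv
    rcases hv with ⟨p, hp, rfl⟩ | hv
    · exact Lifts.loop_val L hc hfree (List.all_eq_true.1 data_loops p hp)
    · simp only [List.mem_cons, List.not_mem_nil, or_false] at hv
      rcases hv with rfl | rfl
      · rw [L.val_vsub hc, L.val_vunit, L.val_vunit, h09, mul_inv_cancel]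
      · rw [L.val_vunit, h15]
  intro n hn
  rw [← L.val_vunit, ← L.val_vsame hc (List.all_eq_true.1 data_combos n (List.mem_range.2 hn))]
  exact Lifts.combine_val L hc _ _ hall

end CfsgLib.ThMult
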