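import Cfsg.Agent.Lib.Th.Cert.DceOK
import Cfsg.Agent.Lib.ThMult.CoverPts
import Cfsg.Agent.Lib.Presented.Orbit

/-!
Finiteness of the presented Thompson group: the checked edges leave every coset of every named orbit inside the
named orbits.
-/
set_option autoImplicit false
set_option maxRecDepth 8000

namespace CfsgLib.ThMult

open CfsgLib.Presented CfsgLib.Presented.Vec CfsgLib.Th

/-- number of checked records -/
def numRecs : ℕ := 4311

theorem cert_holds : ∀ k, k < numRecs → DceData.cert.Holds k := Cert.holds_of_ok DceOK.ok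

/-- the word of a stabilising record of orbit `i` -/
def stabWord (i n : ℕ) : Rec → Option (List ℕ)
  | .stab i' w _ => cond (Nat.beq i' i && Nat.blt n numRecs) (some w) none
  | .edge .. => none

/-- the words of listed stabilising records -/
noncomputable def stabWs (i : ℕ) (ids : List ℕ) : List (List ℕ) :=
  ids.filterMap fun n => stabWord i n (DceData.cert.recs.get n)

/-- the start of a listed edge names the listed point -/
noncomputable def ptOK (i : ℕ) (e : ℕ × ℕ) : Bool :=
  Nat.blt e.1 numRecs && Nat.blt e.2 17199 &&
    match DceData.cert.recs.get e.1 with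
    | .edge i' h j _ _ _ _ => Nat.beq i' i && Nat.blt j 11 && small h &&
        (applyNet (P17199.rep.netW h) (Nat.shiftLeft 1 e.2)).testBit 0
    | .stab .. => false

/-- set of the listed points -/
noncomputable def seedSet (l : List (ℕ × ℕ)) : ℕ := l.foldr (fun e acc => Nat.lor (Nat.shiftLeft 1 e.2) acc) 0

/-- all classes of cosets of orbit `i` are reached -/
noncomputable def coverOKi (i rounds : ℕ) (ids : List ℕ) (parts : List (List (ℕ × ℕ))) : Bool :=
  (stabWs i ids).all small &&
    Nat.beq (grow P17199.rep (stabWs i ids) rounds (seedSet parts.flatten)) (ones 17199)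

theorem mem_of_seedSet : ∀ (l : List (ℕ × ℕ)) (b : ℕ), (seedSet l).testBit b = true → ∃ e ∈ l, e.2 = b
  | [], b, h => by simp [seedSet] at h
  | e :: l, b, h => by
    change Nat.testBit (1 <<< e.2 ||| seedSet l) b = true at h
    rw [Nat.testBit_or, Bool.or_eq_true] at h
    rcases h with h | h
    · rw [Nat.testBit_shiftLeft, Bool.and_eq_true, decide_eq_true_eq] at h
      have := VCert.one_bit h.2
      exact ⟨e, List.mem_cons_self, by omega⟩
    · obtain ⟨e', he', h'⟩ := mem_of_seedSet l b h
      exact ⟨e', List.mem_cons_of_mem _ he', h'⟩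

theorem mem_grow {ws : List (List ℕ)} (hws : ws.all small = true) {H : Subgroup HT}
    (hH : H = Subgroup.closure ((fun w => evW hev w) '' {w | w ∈ ws})) :
    ∀ (n S : ℕ) (k : Fin P17199.rep.N), (grow P17199.rep ws n S).testBit k = true →
      ∃ g ∈ H, S.testBit (lact g k) = true
  | 0, S, k, h => ⟨1, H.one_mem, by simpa [grow] using h⟩
  | n + 1, S, k, h => by
    rw [grow, force_eq] at h
    obtain ⟨g, hg, hS⟩ := mem_grow hws hH n _ k h
    suffices key : ∀ l : List (List ℕ), (∀ w ∈ l, w ∈ ws) → ∀ S (k : Fin P17199.rep.N),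
        (growStep P17199.rep l S).testBit k = true → ∃ g ∈ H, S.testBit (lact g k) = true by
      obtain ⟨g', hg', hS'⟩ := key ws (fun _ h => h) S _ hS
      exact ⟨g' * g, H.mul_mem hg' hg, by rw [map_mul, Equiv.Perm.mul_apply]; exact hS'⟩
    intro l
    induction l with
    | nil => exact fun _ S k h => ⟨1, H.one_mem, by simpa [growStep] using h⟩
    | cons w l ihl =>
      intro hl S k h
      obtain ⟨g, hg, hS⟩ := ihl (fun v hv => hl v (List.mem_cons_of_mem _ hv)) _ k h
      change Nat.testBit (S ||| applyNet (P17199.rep.netW w) S) _ = true at hS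
      rw [Nat.testBit_or, Bool.or_eq_true] at hS
      rcases hS with hS | hS
      · exact ⟨g, hg, hS⟩
      · refine ⟨evW hev w * g, H.mul_mem ?_ hg, ?_⟩
        · rw [hH]
          exact Subgroup.subset_closure ⟨w, hl w List.mem_cons_self, rfl⟩
        · rw [testBit_applyNet (Rep.netOk_netW P17199.rep_valid w)] at hS
          rw [map_mul, Equiv.Perm.mul_apply, map_lact (List.all_eq_true.1 hws w (hl w List.mem_cons_self)),
            Rep.netW_perm P17199.rep_valid]
          exact hS

theorem orbits_cover : (List.range 11).all (fun i => Nat.beq i 0 ||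
    CoverPts.orbits.any fun o => Nat.beq o.1 i) = true := by decide +kernel

theorem orbits_ok : CoverPts.orbits.all (fun o => coverOKi o.1 o.2.2.1 o.2.1 o.2.2.2) = true := by decide +kernel

/-- all listed points are right -/
noncomputable def ptsOK (o : ℕ × List ℕ × ℕ × List (List (ℕ × ℕ))) : Bool :=
  o.2.2.2.all fun l => l.all (ptOK o.1)

theorem pts_ok_a : (CoverPts.orbits.take 5).all ptsOK = true := by decide +kernel

theorem pts_ok_b : ((CoverPts.orbits.drop 5).take 1).all ptsOK = true := by decide +kernel

theorem pts_ok_c : (CoverPts.orbits.drop 6).all ptsOK = true := by decide +kernel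

theorem pts_ok : CoverPts.orbits.all ptsOK = true := by
  have h := congrArg (List.all · ptsOK) (List.take_append_drop 5 CoverPts.orbits)
  have h' := congrArg (List.all · ptsOK) (List.take_append_drop 1 (CoverPts.orbits.drop 5))
  simp only [List.all_append, List.drop_drop] at h h'
  rw [← h, ← h', pts_ok_a, pts_ok_b, pts_ok_c]
  rfl

/-- the named cosets -/
noncomputable def named : Set Cosets :=
  Set.range fun p : Fin 11 × HT => rt (DceData.cert.C p.1) (iota p.2)

theorem rt_C_u {i : ℕ} (hi : i < 11) (x : HT) : rt (rt (DceData.cert.C i) (iota x)) U ∈ named := by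
  rcases Nat.eq_zero_or_pos i with rfl | hpos
  · have h0 := cert_holds 0 (by decide)
    rw [Cert.Holds, show DceData.cert.recs.get 0 = .edge 0 [] 1 [] (.dfn 1) [] [] by rfl] at h0
    simp only [Cert.pt, hv_nil, rt_one] at h0
    rw [DceData.cert.C_zero, rt_c0, ← DceData.cert.C_zero, h0]
    exact ⟨(⟨1, by decide⟩, 1), by simp [rt_one]⟩
  · obtain ⟨o, ho, hoi⟩ : ∃ o ∈ CoverPts.orbits, o.1 = i := by
      have h := List.all_eq_true.1 orbits_cover i (List.mem_range.2 hi)
      simp only [Bool.or_eq_true, List.any_eq_true] at h
      rcases h with h | ⟨o, ho, h⟩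
      · exact absurd (Nat.eq_of_beq_eq_true h) (by omega)
      · exact ⟨o, ho, Nat.eq_of_beq_eq_true h⟩
    obtain ⟨i', ids, rounds, parts⟩ := o
    obtain rfl : i' = i := hoi
    have hcov := List.all_eq_true.1 orbits_ok _ ho
    have hpts := List.all_eq_true.1 pts_ok _ ho
    simp only [coverOKi, Bool.and_eq_true] at hcov
    obtain ⟨hws, hgrow⟩ := hcov
    set ws := stabWs i' ids with hws'
    set H := Subgroup.closure ((fun w => evW hev w) '' {w | w ∈ ws}) with hH
    have hstab : ∀ g ∈ H, rt (DceData.cert.C i') (iota g) = DceData.cert.C i' := by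
      intro g hg
      induction hg using Subgroup.closure_induction with
      | mem y hy =>
        obtain ⟨w, hw, rfl⟩ := hy
        simp only [hws', stabWs, Set.mem_ofPred_eq, List.mem_filterMap] at hw
        obtain ⟨n, -, hw⟩ := hw
        cases hr : DceData.cert.recs.get n with
        | edge a b c e f k l => simp [hr, stabWord] at hw
        | stab a v src =>
          simp only [hr, stabWord] at hw
          cases hb : (Nat.beq a i' && Nat.blt n numRecs)
          · simp [hb] at hw
          · simp only [hb, cond_true, Option.some.injEq] at hw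
            subst hw
            simp only [Bool.and_eq_true, Nat.blt_eq] at hb
            have h := cert_holds n hb.2
            rw [Cert.Holds, hr] at h
            obtain rfl := Nat.eq_of_beq_eq_true hb.1
            exact h
      | one => rw [map_one, rt_one]
      | mul y z _ _ ihy ihz => rw [map_mul, rt_mul, ihy, ihz]
      | inv y _ ih =>
        apply rt_inj (g := iota y)
        rw [← rt_mul, ← map_mul, inv_mul_cancel, map_one, rt_one, ih]
    have hbit : (grow P17199.rep ws rounds (seedSet parts.flatten)).testBit (lact x pt0) = true := by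
      rw [Nat.eq_of_beq_eq_true hgrow, testBit_ones]
      exact decide_eq_true (lact x pt0).2
    obtain ⟨k, hk, hkb⟩ := mem_grow hws hH rounds _ _ hbit
    obtain ⟨e, he, hep⟩ := mem_of_seedSet _ _ hkb
    obtain ⟨l, hl, hel⟩ := List.mem_flatten.1 he
    have hp := List.all_eq_true.1 (List.all_eq_true.1 hpts l hl) e hel
    simp only [ptOK, Bool.and_eq_true, Nat.blt_eq] at hp
    obtain ⟨⟨hn, hlt⟩, hp⟩ := hp
    cases hr : DceData.cert.recs.get e.1 with
    | stab a v src => simp [hr] at hp
    | edge a h j g src kk ll =>
      simp only [hr, Bool.and_eq_true, Nat.blt_eq] at hp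
      obtain ⟨⟨⟨ha, hj⟩, hsm⟩, hb⟩ := hp
      obtain rfl := Nat.eq_of_beq_eq_true ha
      have hpe : ((lact (evW hev h) pt0 : Fin P17199.rep.N) : ℕ) = e.2 := by
        rw [map_lact hsm, Rep.netW_perm P17199.rep_valid]
        rw [testBit_applyNet (Rep.netOk_netW P17199.rep_valid h)] at hb
        change Nat.testBit (1 <<< e.2) (netPerm (P17199.rep.netW h) 0) = true at hb
        rw [Nat.testBit_shiftLeft, Bool.and_eq_true, decide_eq_true_eq] at hb
        have := VCert.one_bit hb.2
        show netPerm (P17199.rep.netW h) 0 = e.2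
        omega
      have heq : lact k (lact x pt0) = lact (evW hev h) pt0 := Fin.ext (hep.symm.trans hpe.symm)
      have hmem : (evW hev h)⁻¹ * (k * x) ∈ Lsub := by
        rw [mem_Lsub_iff, map_mul, Equiv.Perm.mul_apply, map_mul, Equiv.Perm.mul_apply, heq,
          ← Equiv.Perm.mul_apply (lact (evW hev h)⁻¹), ← map_mul, inv_mul_cancel, map_one, Equiv.Perm.one_apply]
      obtain ⟨v, hv'⟩ := exists_comm hmem
      have hh := cert_holds e.1 hn
      rw [Cert.Holds, hr] at hh
      have hx : rt (DceData.cert.C a) (iota x) =
          rt (DceData.cert.pt (a, h)) (iota ((evW hev h)⁻¹ * (k * x))) := by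
        rw [Cert.pt, hv, ← rt_mul, ← map_mul, mul_inv_cancel_left, map_mul, rt_mul, hstab k hk]
      rw [hx, ← rt_mul, hv', rt_mul, hh, Cert.pt, hv, ← rt_mul, ← map_mul]
      exact ⟨(⟨j, hj⟩, evW hev g * v), rfl⟩

/-- The presented Thompson group is finite. -/
theorem finite_th : Finite Cfsg.Spor.Th := by
  have : Finite HT := Nat.finite_of_card_ne_zero cardHT_le.1
  have hfin : named.Finite := Set.finite_range _
  have hclosed : ∀ g : Cfsg.Spor.Th, ∀ q ∈ named, rt q g ∈ named := by
    have hU : ∀ q ∈ named, rt q U ∈ named := by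
      rintro _ ⟨⟨i, x⟩, rfl⟩
      exact rt_C_u i.2 x
    have hH : ∀ y : HT, ∀ q ∈ named, rt q (iota y) ∈ named := by
      rintro y _ ⟨⟨i, x⟩, rfl⟩
      exact ⟨(i, x * y), by simp only [map_mul, rt_mul]⟩
    have hev' : ∀ x, x < alphabet.eps → ∀ q ∈ named, rt q (ev x) ∈ named := by
      intro x hx q hq
      change x < 16 at hx
      by_cases h14 : x < 14
      · have : ev x = hv [x] := by
          rw [hv_eq (by simp [noU, Nat.blt_eq, h14])]
          simp
        rw [this]
        exact hH _ q hq
      · rcases (show x = 14 ∨ x = 15 by omega) with rfl | rfl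
        · exact hU q hq
        · rw [ev15, U_inv, rt_mul]
          exact hH _ _ (hU q hq)
    intro g
    have hg : g ∈ Subgroup.closure (ev '' Set.Iio alphabet.eps) := by rw [gen_top]; exact Subgroup.mem_top g
    induction hg using Subgroup.closure_induction_right with
    | one => exact fun q hq => by rwa [rt_one]
    | mul_right y _ z hz ih =>
      obtain ⟨x, hx, rfl⟩ := hz
      exact fun q hq => by rw [rt_mul]; exact hev' x hx _ (ih q hq)
    | mul_inv_cancel y _ z hz ih =>
      obtain ⟨x, hx, rfl⟩ := hz
      intro q hq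
      have hinv : (ev x)⁻¹ = ev (alphabet.invl x) := by
        have := (letters_good (extra := Cfsg.Spor.Th.extra)).inv x (le_of_lt hx)
        exact (eq_inv_of_mul_eq_one_left this).symm
      have hlt : alphabet.invl x < alphabet.eps := by
        have : ((List.range 16).all fun y => Nat.blt (alphabet.invl y) 16) = true := by decide +kernel
        have := List.all_eq_true.1 this x (List.mem_range.2 hx)
        rwa [Nat.blt_eq] at this
      rw [rt_mul, hinv]
      exact hev' _ hlt _ (ih q hq)
  have hc0 : c0 ∈ named := ⟨(⟨0, by decide⟩, 1), by simp [rt_one, DceData.cert.C_zero]⟩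
  have huniv : (Set.univ : Set Cosets) = named := by
    refine (Set.eq_univ_of_forall fun q => ?_).symm
    induction q using Quotient.inductionOn' with
    | h a =>
      have := hclosed a⁻¹ c0 hc0
      rwa [rt, c0, MulAction.Quotient.smul_coe, smul_eq_mul, inv_inv, mul_one] at this
  have : Finite Cosets := Set.finite_univ_iff.1 (huniv ▸ hfin)
  have : Finite (iota.range : Subgroup Cfsg.Spor.Th) :=
    Finite.of_surjective iota.rangeRestrict iota.rangeRestrict_surjective
  exact Finite.of_equiv _ (Subgroup.groupEquivQuotientProdSubgroup (s := iota.range)).symm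

end CfsgLib.ThMult
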