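import Cfsg.Agent.Lib.ThMult.Algebra

/-!
Conjugates of a lift under a lift of an element of order seven, multiplied like the nonzero vectors of a
three-dimensional space over two elements: their common square is trivial.
-/
set_option autoImplicit false

namespace CfsgLib.ThMult

variable {G : Type*} [Group G]

/-- Seven elements with common central square `q`, multiplying cyclically: `q` is trivial. -/
theorem sq_eq_one_of_cycle (E : ℕ → G) (q : G) (hq : ∀ g, Commute q g) (hsq : ∀ i, E i * E i = q)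
    (hmul : ∀ i, E i * E (i + 3) = E (i + 1)) (hper : ∀ i, E (i + 7) = E i) : q = 1 := by
  have anti : ∀ x z y : G, x * x = q → z * z = q → y * y = q → x * z = y → z * x = x * z * q⁻¹ := by
    intro x z y hx hz hy h
    have hxi : x⁻¹ = x * q⁻¹ := by
      rw [← hx, mul_inv_rev, mul_inv_cancel_left]
    have hzi : z⁻¹ = z * q⁻¹ := by
      rw [← hz, mul_inv_rev, mul_inv_cancel_left]
    have h1 : z * x = x⁻¹ * q * z⁻¹ := by
      rw [← hy, ← h]; group
    calc z * x = x⁻¹ * q * z⁻¹ := h1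
      _ = x * (q⁻¹ * q) * z⁻¹ := by rw [hxi, mul_assoc x]
      _ = x * z * q⁻¹ := by rw [inv_mul_cancel, mul_one, hzi, mul_assoc]
  have P : ∀ i, E (i + 3) * E i = E i * E (i + 3) * q⁻¹ := fun i =>
    anti _ _ _ (hsq _) (hsq _) (hsq _) (hmul i)
  have hq2 : q⁻¹ = q := by
    have h1 := P 0
    have h2 : E 3 * (E 0 * E 0) = E 0 * E 0 * E 3 * (q⁻¹ * q⁻¹) := by
      calc E 3 * (E 0 * E 0) = E 3 * E 0 * E 0 := by group
        _ = E 0 * E 3 * (q⁻¹ * E 0) := by rw [h1]; group
        _ = E 0 * (E 3 * E 0) * q⁻¹ := by rw [(hq (E 0)).inv_left.eq]; group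
        _ = E 0 * E 0 * E 3 * (q⁻¹ * q⁻¹) := by rw [h1]; group
    rw [hsq, ← (hq (E 3)).eq] at h2
    have h3 : q⁻¹ * q⁻¹ = 1 := mul_left_cancel (h2.symm.trans (mul_one _).symm)
    rw [inv_eq_iff_mul_eq_one]
    have h4 := congrArg (·⁻¹) h3
    simpa using h4
  simp only [hq2] at P
  have P04 : E 0 * E 4 = E 4 * E 0 * q := by
    have := P 4
    rwa [show E (4 + 3) = E 0 from hper 0] at this
  have P40 : E 4 * E 0 = E 0 * E 4 * q := by
    have hqq : q * q = 1 := by
      conv_lhs => rw [← hq2]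
      exact inv_mul_cancel q ▸ (by rw [hq2])
    rw [P04, mul_assoc, hqq, mul_one]
  have P10 : E 1 * E 0 = E 0 * E 1 * q := by
    rw [← hmul 0]
    calc E 0 * E (0 + 3) * E 0 = E 0 * (E (0 + 3) * E 0) := by group
      _ = E 0 * (E 0 * E (0 + 3)) * q := by rw [P 0]; group
  have hcomm : E 2 * E 0 = E 0 * E 2 * (q * q) := by
    have h14 := hmul 1
    rw [← h14]
    calc E 1 * E 4 * E 0 = E 1 * (E 4 * E 0) := by group
      _ = E 1 * E 0 * (E 4 * q) := by rw [P40]; group
      _ = E 0 * E 1 * (q * E 4) * q := by rw [P10]; group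
      _ = E 0 * (E 1 * E 4) * (q * q) := by rw [(hq (E 4)).eq]; group
  have h62 : E 6 * E 2 = E 0 := by
    have := hmul 6
    rwa [show E (6 + 3) = E 2 from hper 2, show E (6 + 1) = E 0 from hper 0] at this
  have P62 : E 2 * E 6 = E 6 * E 2 * q := by
    have := P 6
    rwa [show E (6 + 3) = E 2 from hper 2] at this
  have hqq : q * q = 1 := by
    conv_lhs => rw [← hq2]
    exact inv_mul_cancel q ▸ (by rw [hq2])
  rw [hqq, mul_one, ← h62] at hcomm
  have h3 : E 2 * (E 6 * E 2) = E 6 := by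
    calc E 2 * (E 6 * E 2) = E 2 * E 6 * E 2 := by group
      _ = E 6 * E 2 * (q * E 2) := by rw [P62]; group
      _ = E 6 * (E 2 * E 2) * q := by rw [(hq (E 2)).eq]; group
      _ = E 6 * (q * q) := by rw [hsq]; group
      _ = E 6 := by rw [hqq, mul_one]
  rw [h3, mul_assoc, hsq] at hcomm
  exact (mul_left_cancel ((mul_one _).trans hcomm)).symm

end CfsgLib.ThMult
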