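import Cfsg.Agent.Lib.ThMult.UStage
import Cfsg.Agent.Lib.ThMult.Squares

/-!
The first subgroup presentation lifts to every central extension of the presented Thompson group.
-/
set_option autoImplicit false
set_option maxRecDepth 8000

namespace CfsgLib.ThMult

open CfsgLib.Presented CfsgLib.Th

variable {Γ : Type} [Group Γ] (σ : Γ →* Cfsg.Spor.Th)

/-- A lift of the subgroup presentation and of the extra generator. -/
structure Lifts where
  h : HT →* Γ
  u : Γ
  map_h : ∀ x, σ (h x) = iota x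
  map_u : σ u = U
  comm_t : h (evW hev [12]) * u = u * h (evW hev [13])

theorem ev_odd : ev 1 = (ev 0)⁻¹ ∧ ev 3 = (ev 2)⁻¹ ∧ ev 5 = (ev 4)⁻¹ ∧ ev 7 = (ev 6)⁻¹ ∧ ev 9 = (ev 8)⁻¹ ∧
    ev 11 = (ev 10)⁻¹ ∧ ev 13 = (ev 12)⁻¹ ∧ ev 15 = (ev 14)⁻¹ :=
  ⟨rfl, rfl, rfl, rfl, rfl, rfl, rfl, rfl⟩

variable {σ}

set_option maxHeartbeats 1000000 in
theorem exists_lifts (hs : Function.Surjective σ) (hc : σ.ker ≤ Subgroup.center Γ)
    (hinj : Function.Injective iota) : Nonempty (Lifts σ) := by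
  obtain ⟨o1, o3, o5, o7, o9, o11, o13, o15⟩ := ev_odd
  have cen : ∀ {k : Γ}, σ k = 1 → ∀ g, Commute k g := fun h g =>
    (Subgroup.mem_center_iff.1 (hc (MonoidHom.mem_ker.2 h)) g).symm
  have R : ∀ w, relWords.contains w = true → evW ev w = 1 := fun w hw =>
    rels_hold w (List.contains_iff_mem.1 hw)
  have ra := R [0, 0] (by decide +kernel)
  have rb := R [2, 2] (by decide +kernel)
  have rc := R [4, 4] (by decide +kernel)
  have rd := R [6, 6] (by decide +kernel)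
  have re := R [8, 8] (by decide +kernel)
  have rab := R [0, 2, 0, 2, 0, 2] (by decide +kernel)
  have rbc := R [2, 4, 2, 4, 2, 4] (by decide +kernel)
  have racd := R [0, 7, 5, 7, 5, 7, 5, 7, 5] (by decide +kernel)
  have rde := R [6, 8, 6, 8, 6, 8] (by decide +kernel)
  have rs := R [10, 10, 10, 10, 10, 10, 10] (by decide +kernel)
  have rsa := R [11, 1, 10, 0] (by decide +kernel)
  have rsb := R [11, 3, 10, 2] (by decide +kernel)
  have rsc := R [11, 5, 10, 4] (by decide +kernel)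
  have rsd := R [10, 6, 10, 6] (by decide +kernel)
  have res := R [9, 11, 8, 11, 11, 9, 10, 10, 10] (by decide +kernel)
  have rt := R [12, 12, 12] (by decide +kernel)
  have rta := R [13, 1, 12, 0] (by decide +kernel)
  have rtb := R [13, 3, 12, 2] (by decide +kernel)
  have rtc := R [13, 5, 12, 4] (by decide +kernel)
  have rtd := R [13, 7, 12, 6] (by decide +kernel)
  have rte := R [13, 9, 12, 8] (by decide +kernel)
  have rts := R [13, 10, 12, 11, 11] (by decide +kernel)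
  have rtu := R [15, 12, 14, 12] (by decide +kernel)
  simp only [evW_cons, evW_nil, mul_one, o1, o3, o5, o7, o9, o11, o13, o15] at ra rb rc rd re rab rbc racd rde rs rsa rsb rsc rsd res rt rta rtb rtc rtd rte rts rtu
  obtain ⟨b0, hb0⟩ := hs (ev 2)
  obtain ⟨c0, hc0⟩ := hs (ev 4)
  obtain ⟨d0, hd0⟩ := hs (ev 6)
  obtain ⟨e0, he0⟩ := hs (ev 8)
  obtain ⟨s0, hs0⟩ := hs (ev 10)
  obtain ⟨t0, ht0⟩ := hs (ev 12)
  obtain ⟨u, hu⟩ := hs U
  have hu' : σ u = ev 14 := hu
  -- the element of order seven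
  let ks := (s0 ^ 2)⁻¹ * (t0⁻¹ * s0 * t0)
  have hks : σ ks = 1 := by
    simp only [ks, map_mul, map_inv, map_pow, hs0, ht0, pow_two]
    calc (ev 10 * ev 10)⁻¹ * ((ev 12)⁻¹ * ev 10 * ev 12)
        = (ev 10 * ev 10)⁻¹ * ((ev 12)⁻¹ * (ev 10 * (ev 12 * ((ev 10)⁻¹ * (ev 10)⁻¹)))) * (ev 10 * ev 10) := by
          group
      _ = 1 := by rw [rts]; group
  let S := s0 * ks
  have hS : σ S = ev 10 := by simp [S, hks, hs0]
  have hSt : t0⁻¹ * S * t0 = S ^ 2 := by
    calc t0⁻¹ * S * t0 = t0⁻¹ * s0 * t0 * ks := by simp only [S, mul_assoc, ((cen hks) t0).eq]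
      _ = s0 ^ 2 * ks * ks := by simp [ks, mul_assoc]
      _ = S ^ 2 := by
        rw [show S = s0 * ks from rfl, ((cen hks) s0).symm.mul_pow, pow_two ks, mul_assoc]
  have hS7 : S ^ 7 = 1 := by
    have hw : σ (S ^ 7) = 1 := by
      rw [map_pow, hS]
      conv_rhs => rw [← rs]
      simp only [pow_succ, pow_zero, one_mul, mul_assoc]
    have h1 : (t0⁻¹ * S * t0) ^ 7 = t0⁻¹ * S ^ 7 * t0 := by
      simpa using conj_pow (a := t0⁻¹) (b := S) (i := 7)
    rw [hSt, mul_assoc t0⁻¹, ((cen hw) t0).eq, inv_mul_cancel_left, ← pow_mul] at h1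
    rw [show 2 * 7 = 7 + 7 from rfl, pow_add] at h1
    exact mul_eq_left.1 h1
  -- the involution of the normal four-group stage
  let ke := e0⁻¹ * S⁻¹ * e0 * S * ((S ^ 3)⁻¹ * e0 * S ^ 3)⁻¹
  have hke : σ ke = 1 := by
    simp only [ke, map_mul, map_inv, map_pow, hS, he0]
    conv_rhs => rw [← res]
    simp only [pow_succ, pow_zero, one_mul, mul_inv_rev, inv_inv, mul_assoc, mul_inv_cancel_left]
  let E := e0 * ke
  have hE : σ E = ev 8 := by simp [E, hke, he0]
  have hES : S⁻¹ * E * S = E * ((S ^ 3)⁻¹ * E * S ^ 3) := by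
    have h1 : S⁻¹ * E * S = S⁻¹ * e0 * S * ke := by
      simp only [E, mul_assoc, ((cen hke) S).eq]
    have h2 : (S ^ 3)⁻¹ * E * S ^ 3 = (S ^ 3)⁻¹ * e0 * S ^ 3 * ke := by
      simp only [E, mul_assoc, ((cen hke) (S ^ 3)).eq]
    have h3 : S⁻¹ * e0 * S = e0 * ke * ((S ^ 3)⁻¹ * e0 * S ^ 3) := by
      simp only [ke]
      group
    rw [h1, h2, h3, show E = e0 * ke from rfl]
    simp only [mul_assoc]
  have hE2 : E * E = 1 := by
    have hq : σ (E * E) = 1 := by rw [map_mul, hE, re]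
    refine sq_eq_one_of_cycle (fun i => (S ^ i)⁻¹ * E * S ^ i) (E * E) (cen hq) (fun i => ?_) (fun i => ?_)
      fun i => ?_
    · calc (S ^ i)⁻¹ * E * S ^ i * ((S ^ i)⁻¹ * E * S ^ i) = (S ^ i)⁻¹ * (E * E) * S ^ i := by group
        _ = E * E := by rw [mul_assoc, ((cen hq) _).eq, inv_mul_cancel_left]
    · calc (S ^ i)⁻¹ * E * S ^ i * ((S ^ (i + 3))⁻¹ * E * S ^ (i + 3))
          = (S ^ i)⁻¹ * (E * ((S ^ 3)⁻¹ * E * S ^ 3)) * S ^ i := by
            rw [add_comm i 3, pow_add]; group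
        _ = (S ^ (i + 1))⁻¹ * E * S ^ (i + 1) := by
            rw [← hES, add_comm i 1, pow_add, pow_one]; group
    · show (S ^ (i + 7))⁻¹ * E * S ^ (i + 7) = _
      rw [pow_add, hS7, mul_one]
  -- the lift of `d`
  let D1 := (d0 * E)⁻¹ * E * (d0 * E)
  have braid_conj : ∀ x y : Cfsg.Spor.Th, x * x = 1 → y * y = 1 → x * (y * (x * (y * (x * y)))) = 1 →
      (y * x)⁻¹ * x * (y * x) = y := by
    intro x y hx hy h
    have hxi : x⁻¹ = x := inv_eq_of_mul_eq_one_right hx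
    have hyi : y⁻¹ = y := inv_eq_of_mul_eq_one_right hy
    calc (y * x)⁻¹ * x * (y * x) = x * (y * (x * (y * (x * y)))) * y⁻¹ := by
          conv_lhs => rw [mul_inv_rev, hxi, hyi]
          group
      _ = y := by rw [h, one_mul, hyi]
  have hD1 : σ D1 = ev 6 := by
    simp only [D1, map_mul, map_inv, hd0, hE]
    refine braid_conj _ _ re rd ?_
    have h := mul_eq_one_comm.1 rde
    simpa only [mul_assoc] using h
  have hD1sq : D1 * D1 = 1 := by
    calc D1 * D1 = (d0 * E)⁻¹ * (E * E) * (d0 * E) := by simp only [D1]; group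
      _ = 1 := by rw [hE2]; group
  have hm : σ ((D1 * E) ^ 3) = 1 := by
    rw [map_pow, map_mul, hD1, hE]
    conv_rhs => rw [← rde]
    simp only [pow_succ, pow_zero, one_mul, mul_assoc]
  have hm2 := sq_eq_one_of_dihedral (fun g => Commute.one_left g) (fun g => Commute.one_left g) hD1sq hE2
    (cen hm) (by simp)
  let D := D1 * (D1 * E) ^ 3
  have hD : σ D = ev 6 := by simp [D, hD1, hm]
  have hD2 : D * D = 1 := by
    calc D * D = D1 * D1 * ((D1 * E) ^ 3 * (D1 * E) ^ 3) := by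
          simp only [D]
          rw [mul_assoc, ← mul_assoc ((D1 * E) ^ 3) D1, ((cen hm) D1).eq]
          simp only [mul_assoc]
      _ = 1 := by rw [hD1sq, hm2, one_mul]
  have hDE : (D * E) ^ 3 = 1 := by
    calc (D * E) ^ 3 = (D1 * E * (D1 * E) ^ 3) ^ 3 := by
          simp only [D]; rw [mul_assoc D1 ((D1 * E) ^ 3), ((cen hm) E).eq, ← mul_assoc]
      _ = (D1 * E) ^ 3 * ((D1 * E) ^ 3) ^ 3 := ((cen hm) _).symm.mul_pow 3
      _ = ((D1 * E) ^ 3 * (D1 * E) ^ 3) ^ 2 := by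
          rw [← pow_succ' ((D1 * E) ^ 3) 3, ← pow_two, ← pow_mul ((D1 * E) ^ 3) 2 2]
      _ = 1 := by rw [hm2, one_pow]
  -- the lift of `s d`
  have hSD : (S * D) ^ 2 = 1 := by
    have hk : σ ((S * D) ^ 2) = 1 := by
      rw [map_pow, map_mul, hS, hD]
      conv_rhs => rw [← rsd]
      simp only [pow_succ, pow_zero, one_mul, mul_assoc]
    let kd := D⁻¹ * t0⁻¹ * D * t0
    have hkd : σ kd = 1 := by
      simp only [kd, map_mul, map_inv, hD, ht0]
      calc (ev 6)⁻¹ * (ev 12)⁻¹ * ev 6 * ev 12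
          = ((ev 12)⁻¹ * ((ev 6)⁻¹ * (ev 12 * ev 6)))⁻¹ := by group
        _ = 1 := by rw [rtd, inv_one]
    have hDt : t0⁻¹ * D * t0 = D * kd := by simp only [kd]; group
    have hk2 : kd ^ 2 = 1 := pow_eq_one_of_conj (cen hkd) hDt (by rw [pow_two, hD2, mul_one, inv_mul_cancel])
    set k := (S * D) ^ 2 with hk'
    have hDSD : D * S * D = S⁻¹ * k := by rw [hk', pow_two]; group
    have h1 : t0⁻¹ * (D * S * D) * t0 = D * S ^ 2 * D := by
      calc t0⁻¹ * (D * S * D) * t0 = t0⁻¹ * D * t0 * (t0⁻¹ * S * t0) * (t0⁻¹ * D * t0) := by group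
        _ = D * (kd * (S ^ 2 * D)) * kd := by rw [hDt, hSt]; group
        _ = D * S ^ 2 * D * kd ^ 2 := by rw [((cen hkd) (S ^ 2 * D)).eq]; simp only [pow_two, mul_assoc]
        _ = D * S ^ 2 * D := by rw [hk2, mul_one]
    have h2 : D * S ^ 2 * D = S⁻¹ * k * (S⁻¹ * k) := by
      rw [← hDSD]
      calc D * S ^ 2 * D = D * S * (D * D) * S * D := by rw [hD2, pow_two]; simp only [mul_one, mul_assoc]
        _ = D * S * D * (D * S * D) := by simp only [mul_assoc]
    rw [hDSD, h2] at h1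
    have h3 : t0⁻¹ * (S⁻¹ * k) * t0 = (S ^ 2)⁻¹ * k := by
      rw [← hSt, mul_assoc t0⁻¹, mul_assoc S⁻¹, ((cen hk) t0).eq]
      group
    rw [h3] at h1
    have h4 : S⁻¹ * k * (S⁻¹ * k) = (S ^ 2)⁻¹ * (k * k) := by
      rw [mul_assoc S⁻¹, ← mul_assoc k, ((cen hk) S⁻¹).eq]; group
    rw [h4] at h1
    exact (mul_eq_left.1 (mul_left_cancel h1).symm)
  -- the lifts of `a`, `b`, `c`
  let Y := c0⁻¹ * D * c0 * D
  let A := Y * Y
  have hA : σ A = ev 0 := by
    have hci : (ev 4)⁻¹ = ev 4 := inv_eq_of_mul_eq_one_right rc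
    have hdi : (ev 6)⁻¹ = ev 6 := inv_eq_of_mul_eq_one_right rd
    simp only [A, Y, map_mul, map_inv, hc0, hD]
    have h := racd
    rw [hci, hdi] at h
    rw [eq_inv_of_mul_eq_one_left h]
    simp only [mul_inv_rev, hci, hdi, mul_assoc]
  have hK : σ (A * A) = 1 := by rw [map_mul, hA, ra]
  have hK2 : A * A * (A * A) = 1 := by
    have hdi : D⁻¹ = D := inv_eq_of_mul_eq_one_right hD2
    have h1 : D⁻¹ * Y * D = Y⁻¹ := by
      simp only [Y, mul_inv_rev, inv_inv, hdi, mul_assoc, hD2, mul_one]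
    have h2 : D⁻¹ * (A * A) * D = (D⁻¹ * Y * D) * (D⁻¹ * Y * D) * ((D⁻¹ * Y * D) * (D⁻¹ * Y * D)) := by
      simp only [A]; group
    rw [mul_assoc D⁻¹, ((cen hK) D).eq, inv_mul_cancel_left, h1] at h2
    calc A * A * (A * A) = A * A * (Y⁻¹ * Y⁻¹ * (Y⁻¹ * Y⁻¹)) := by rw [← h2]
      _ = 1 := by simp only [A]; group
  let B1 := (b0 * A)⁻¹ * A * (b0 * A)
  have hB1 : σ B1 = ev 2 := by
    simp only [B1, map_mul, map_inv, hb0, hA]
    exact braid_conj _ _ ra rb rab
  have conj_sq : ∀ x g : Γ, σ (x * x) = 1 → g⁻¹ * x * g * (g⁻¹ * x * g) = x * x := by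
    intro x g h
    calc g⁻¹ * x * g * (g⁻¹ * x * g) = g⁻¹ * (x * x * g) := by group
      _ = x * x := by rw [((cen h) g).eq, inv_mul_cancel_left]
  have hB1sq : B1 * B1 = A * A := conj_sq A _ hK
  have hmb : σ ((A * B1) ^ 3) = 1 := by
    rw [map_pow, map_mul, hA, hB1]
    conv_rhs => rw [← rab]
    simp only [pow_succ, pow_zero, one_mul, mul_assoc]
  have hKK : A * A * (A * A) = (A * A) ^ 2 := (pow_two _).symm
  have hmb2 := sq_eq_one_of_dihedral (cen hK) (cen hK) rfl hB1sq (cen hmb)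
    (by rw [hK2, one_pow])
  -- adjust the sign
  have adjust : ∀ (X Y : Γ) (y : Cfsg.Spor.Th), σ Y = y → σ ((X * Y) ^ 3) = 1 →
      (X * Y) ^ 3 * (X * Y) ^ 3 = 1 → σ (A * A) = 1 → Y * Y = A * A →
      ∃ Y', σ Y' = y ∧ Y' * Y' = A * A ∧ (X * Y') ^ 3 = A * A ∧ ∃ z, σ z = 1 ∧ Y' = Y * z := by
    intro X Y y hY hm hm2 hK hsq
    let z := (X * Y) ^ 3 * (A * A)
    have hz : σ z = 1 := (map_mul σ _ _).trans (by rw [hm, hK, one_mul])
    have hzz : z * z = 1 := by
      calc z * z = (X * Y) ^ 3 * (X * Y) ^ 3 * (A * A * (A * A)) :=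
            ((cen hm) (A * A)).symm.mul_mul_mul_comm ((X * Y) ^ 3) (A * A)
        _ = 1 := by rw [hm2, hK2, one_mul]
    refine ⟨Y * z, by simp [hY, hz], ?_, ?_, z, hz, rfl⟩
    · calc Y * z * (Y * z) = Y * (z * Y) * z := by group
        _ = Y * Y * (z * z) := by rw [((cen hz) Y).eq]; group
        _ = A * A := by rw [hzz, mul_one, hsq]
    · calc (X * (Y * z)) ^ 3 = (X * Y) ^ 3 * z ^ 3 := by rw [← mul_assoc, ((cen hz) _).symm.mul_pow]
        _ = (X * Y) ^ 3 * (X * Y) ^ 3 * (A * A) := by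
            rw [pow_succ z 2, pow_two z, hzz, one_mul]; simp only [z, mul_assoc]
        _ = A * A := by rw [hm2, one_mul]
  obtain ⟨B, hB, hBsq, hAB, -⟩ := adjust A B1 _ hB1 hmb hmb2 hK hB1sq
  let C1 := (c0 * B)⁻¹ * B * (c0 * B)
  have hC1 : σ C1 = ev 4 := by
    simp only [C1, map_mul, map_inv, hc0, hB]
    exact braid_conj _ _ rb rc rbc
  have hC1sq : C1 * C1 = A * A := (conj_sq B _ (by rw [hBsq, hK])).trans hBsq
  have hmc : σ ((B * C1) ^ 3) = 1 := by
    rw [map_pow, map_mul, hB, hC1]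
    conv_rhs => rw [← rbc]
    simp only [pow_succ, pow_zero, one_mul, mul_assoc]
  have hmc2 := sq_eq_one_of_dihedral (cen hK) (cen hK) hBsq hC1sq (cen hmc) (by rw [hK2, one_pow])
  obtain ⟨C, hC, hCsq, hBC, -⟩ := adjust B C1 _ hC1 hmc hmc2 hK hC1sq
  have hACD : A * ((C * D) ^ 4)⁻¹ = 1 := by
    have hz : σ (c0⁻¹ * C) = 1 := by rw [map_mul, map_inv, hc0, hC, inv_mul_cancel]
    have h1 : C⁻¹ * D * C = c0⁻¹ * D * c0 := by
      conv_lhs => rw [show C = c0 * (c0⁻¹ * C) by group, mul_inv_rev]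
      calc (c0⁻¹ * C)⁻¹ * c0⁻¹ * D * (c0 * (c0⁻¹ * C))
          = (c0⁻¹ * C)⁻¹ * (c0⁻¹ * D * c0 * (c0⁻¹ * C)) := by group
        _ = c0⁻¹ * D * c0 := by rw [← ((cen hz) _).eq, inv_mul_cancel_left]
    have h2 : (C * D) ^ 2 = A * A * Y := by
      calc (C * D) ^ 2 = C * C * (C⁻¹ * D * C * D) := by rw [pow_two]; group
        _ = A * A * Y := by rw [hCsq, h1]
    rw [show 4 = 2 * 2 from rfl, pow_mul, h2, ((cen hK) Y).mul_pow, pow_two (A * A), hK2, one_mul, pow_two]
    exact mul_inv_cancel A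
  -- the values fixed by the enumeration
  let f : Cfsg.Spor.Th.Gen → Γ
    | .a => A | .b => B | .c => C | .d => D | .e => E | .s => S | .t => t0 | .u => u
  have hf : ∀ x, Nat.blt x 10 = true → σ (f (genOf x).1) = PresentedGroup.of (genOf x).1 := by
    intro x hx
    rw [Nat.blt_eq] at hx
    interval_cases x
    all_goals first | exact hA | exact hB | exact hC | exact hD | exact hE
  have hsq : ∀ w ∈ uWords.take 5, evW (letters.ev f) w * evW (letters.ev f) w = 1 := by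
    have hdih : ∀ (x y : Γ) (p r : Γ), σ p = 1 → σ r = 1 → x * x = p → y * y = r → p * p = 1 → r * r = 1 →
        σ ((x * y) ^ 2) = 1 → (x * y) ^ 2 * (x * y) ^ 2 = 1 := by
      intro x y p r hp hr hx hy hpp hrr hm
      refine sq_eq_one_of_dihedral (cen hp) (cen hr) hx hy (cen hm) ?_
      rw [((cen hp) r).mul_pow, pow_two, pow_two, hpp, hrr, one_mul]
    have hr0 : ∀ w ∈ uWords.take 5, σ (evW (letters.ev f) w) = 1 := by
      intro w hw
      have hp : w.all (fun x => Nat.blt x 10) = true := by fin_cases hw <;> decide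
      rw [map_lift_evW σ _ hf hp]
      exact R w (List.all_eq_true.1 uWords_check w (List.mem_of_mem_take hw))
    intro w hw
    have h := hr0 w hw
    fin_cases hw <;> simp only [wpow, List.replicate, List.flatten_cons, List.flatten_nil, List.append_nil,
      List.cons_append, List.nil_append, evW_cons, evW_nil, mul_one] at h ⊢
    · exact hK2
    all_goals
      have e4 : ∀ x y : Γ, x * (y * (x * y)) = (x * y) ^ 2 := fun x y => by rw [pow_two, mul_assoc]
      rw [e4] at h ⊢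
    · exact hdih A E _ 1 hK (map_one σ) rfl hE2 hK2 (mul_one 1) h
    · exact hdih C E _ 1 hK (map_one σ) hCsq hE2 hK2 (mul_one 1) h
    · exact hdih B D _ 1 hK (map_one σ) hBsq hD2 hK2 (mul_one 1) h
    · exact hdih B E _ 1 hK (map_one σ) hBsq hE2 hK2 (mul_one 1) h
  have hv := u_values hc hinj f hf hD2 hE2 hDE hACD hBsq.symm (hBsq.trans hCsq.symm) hAB (hBC.trans hBsq.symm) hsq
  have hA2 := hv (wpow [0] 2) (by simp [uWords])
  have hAE := hv (wpow [0, 8] 2) (by simp [uWords])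
  have hCE := hv (wpow [4, 8] 2) (by simp [uWords])
  have hBD := hv (wpow [2, 6] 2) (by simp [uWords])
  have hBE := hv (wpow [2, 8] 2) (by simp [uWords])
  have hbig := hv (wpow [2, 4, 6, 8] 8) (by simp [uWords])
  simp only [evW_wpow, evW_cons, evW_nil, mul_one] at hA2 hAE hCE hBD hBE hbig
  change A ^ 2 = 1 at hA2
  change (A * E) ^ 2 = 1 at hAE
  change (C * E) ^ 2 = 1 at hCE
  change (B * D) ^ 2 = 1 at hBD
  change (B * E) ^ 2 = 1 at hBE
  change (B * (C * (D * E))) ^ 8 = 1 at hbig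
  rw [pow_two] at hA2
  have hB2 : B * B = 1 := hBsq.trans hA2
  have hC2 : C * C = 1 := hCsq.trans hA2
  -- commutations with `s` and `t`
  have comm_s : ∀ (X : Γ) (x : Cfsg.Spor.Th), σ X = x → X * X = 1 →
      (ev 10)⁻¹ * (x⁻¹ * (ev 10 * x)) = 1 → S⁻¹ * X⁻¹ * S * X = 1 := by
    intro X x hX hX2 hr
    let k := S⁻¹ * X⁻¹ * S * X
    have hk : σ k = 1 := by simp only [k, map_mul, map_inv, hS, hX]; rw [← hr]; simp only [mul_assoc]
    have h1 : X⁻¹ * S * X = S * k := by simp only [k]; group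
    have h7 : k ^ 7 = 1 := pow_eq_one_of_conj (cen hk) h1 (by rw [hS7, mul_one, inv_mul_cancel])
    have h2 : k ^ 2 = 1 := by
      have h := pow_eq_one_of_conj' (cen hk) h1 2
      rw [pow_two X, hX2, inv_one, one_mul, mul_one] at h
      exact mul_left_cancel ((mul_one _).trans h).symm
    exact eq_one_of_seven_two h7 h2
  have ht3 : σ (t0 ^ 3) = 1 := by
    rw [map_pow, ht0]
    conv_rhs => rw [← rt]
    simp only [pow_succ, pow_zero, one_mul, mul_assoc]
  have comm_t' : ∀ (X : Γ) (x : Cfsg.Spor.Th), σ X = x → X * X = 1 →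
      (ev 12)⁻¹ * (x⁻¹ * (ev 12 * x)) = 1 → Commute t0 X := by
    intro X x hX hX2 hr
    let k := X⁻¹ * t0⁻¹ * X * t0
    have hk : σ k = 1 := by
      simp only [k, map_mul, map_inv, hX, ht0]
      calc x⁻¹ * (ev 12)⁻¹ * x * ev 12 = ((ev 12)⁻¹ * (x⁻¹ * (ev 12 * x)))⁻¹ := by group
        _ = 1 := by rw [hr, inv_one]
    have h1 : t0⁻¹ * X * t0 = X * k := by simp only [k]; group
    have h2 : k ^ 2 = 1 := pow_eq_one_of_conj (cen hk) h1 (by rw [pow_two, hX2, mul_one, inv_mul_cancel])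
    have h3 : k ^ 3 = 1 := by
      have h := pow_eq_one_of_conj' (cen hk) h1 3
      rw [mul_assoc, ← ((cen ht3) X).eq, inv_mul_cancel_left] at h
      exact mul_left_cancel ((mul_one _).trans h).symm
    rw [eq_one_of_three_two h3 h2, mul_one] at h1
    show t0 * X = X * t0
    conv_lhs => rw [← h1]
    group
  have hSA := comm_s A _ hA hA2 rsa
  have hSB := comm_s B _ hB hB2 rsb
  have hSC := comm_s C _ hC hC2 rsc
  have htA := comm_t' A _ hA hA2 rta
  have htB := comm_t' B _ hB hB2 rtb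
  have htC := comm_t' C _ hC hC2 rtc
  have htD := comm_t' D _ hD hD2 rtd
  have htE := comm_t' E _ hE hE2 rte
  -- scaling `t`
  let ku := t0 * (u⁻¹ * t0 * u)
  have hku : σ ku = 1 := by
    simp only [ku, map_mul, map_inv, ht0, hu']
    calc ev 12 * ((ev 14)⁻¹ * ev 12 * ev 14)
        = ev 12 * ((ev 14)⁻¹ * (ev 12 * (ev 14 * ev 12))) * (ev 12)⁻¹ := by group
      _ = 1 := by rw [rtu]; group
  have htu : u⁻¹ * t0 * u = t0⁻¹ * ku := by simp only [ku]; group
  have hku3 : ku ^ 3 = (t0 ^ 3) ^ 2 := by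
    have h1 : (u⁻¹ * t0 * u) ^ 3 = u⁻¹ * t0 ^ 3 * u := by simpa using conj_pow (a := u⁻¹) (b := t0) (i := 3)
    rw [htu, ((cen hku) t0⁻¹).symm.mul_pow, inv_pow, mul_assoc u⁻¹, ((cen ht3) u).eq, inv_mul_cancel_left,
      inv_mul_eq_iff_eq_mul] at h1
    rw [h1, pow_two]
  let zt := ku * (t0 ^ 3)⁻¹
  have hzt : σ zt = 1 := by simp only [zt, map_mul, map_inv, hku, ht3, inv_one, mul_one]
  have czt : zt ^ 3 * t0 ^ 3 = 1 := by
    simp only [zt]
    rw [((cen hku) _).mul_pow, hku3]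
    group
  let T := t0 * zt
  have hT : σ T = ev 12 := by simp [T, hzt, ht0]
  have hT3 : T ^ 3 = 1 := by
    simp only [T]
    rw [((cen hzt) t0).symm.mul_pow, ((cen ht3) (zt ^ 3)).eq, czt]
  have hTu : T * u = u * T⁻¹ := by
    have h0 : ku = zt * t0 ^ 3 := by simp [zt]
    have h1 : u⁻¹ * T * u = T⁻¹ := by
      calc u⁻¹ * T * u = u⁻¹ * t0 * u * zt := by simp only [T, mul_assoc, ((cen hzt) u).eq]
        _ = t0⁻¹ * (zt⁻¹ * (zt ^ 2 * t0 ^ 3) * zt) := by rw [htu, h0]; group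
        _ = t0⁻¹ * (zt⁻¹ * (zt ^ 3 * t0 ^ 3)) := by
            rw [mul_assoc zt⁻¹, mul_assoc (zt ^ 2), ← ((cen hzt) (t0 ^ 3)).eq, ← mul_assoc (zt ^ 2), ← pow_succ]
        _ = T⁻¹ := by rw [czt, mul_one]; simp only [T, mul_inv_rev]; exact ((cen hzt) t0).inv_inv.eq.symm
    calc T * u = u * (u⁻¹ * T * u) := by group
      _ = u * T⁻¹ := by rw [h1]
  have commT : ∀ X : Γ, Commute t0 X → T⁻¹ * X⁻¹ * T * X = 1 := by
    intro X h
    have h' : Commute T X := h.mul_left ((cen hzt) X)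
    rw [mul_assoc, h'.eq]; group
  have hST : T⁻¹ * S * T * (S ^ 2)⁻¹ = 1 := by
    have : T⁻¹ * S * T = t0⁻¹ * S * t0 := by
      simp only [T, mul_inv_rev]
      calc zt⁻¹ * t0⁻¹ * S * (t0 * zt) = zt⁻¹ * (t0⁻¹ * S * t0 * zt) := by group
        _ = t0⁻¹ * S * t0 := by rw [← ((cen hzt) _).eq, inv_mul_cancel_left]
    rw [this, hSt, mul_inv_cancel]
  have hESr : E⁻¹ * S⁻¹ * E * S * ((S ^ 3)⁻¹ * E * S ^ 3)⁻¹ = 1 := by
    calc _ = E⁻¹ * (S⁻¹ * E * S) * ((S ^ 3)⁻¹ * E * S ^ 3)⁻¹ := by group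
      _ = 1 := by rw [hES]; group
  -- the homomorphism
  let img : Cfsg.Spor.Th.Gen → Γ
    | .a => A | .b => B | .c => C | .d => D | .e => E | .s => S | .t => T | .u => 1
  have hkill : ∀ r ∈ Cfsg.Spor.coxRelators Cfsg.Spor.Th.edges ∪ {r | r ∈ hExtra}, FreeGroup.lift img r = 1 := by
    rintro r (⟨x, hx, -⟩ | hr)
    · exact absurd hx (by simp [Cfsg.Spor.coxNodes, Cfsg.Spor.Th.edges])
    · simp only [hExtra, Cfsg.Spor.Th.extra, List.take_succ_cons, List.take_zero, List.cons_append,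
        List.nil_append, Set.mem_ofPred_eq, List.mem_cons, List.not_mem_nil, or_false] at hr
      rcases hr with rfl | rfl | rfl | rfl | rfl | rfl | rfl | rfl | rfl | rfl | rfl | rfl | rfl | rfl |
          rfl | rfl | rfl | rfl | rfl | rfl | rfl | rfl | rfl | rfl | rfl | rfl | rfl | rfl <;>
        simp only [Cfsg.Spor.Th.a, Cfsg.Spor.Th.b, Cfsg.Spor.Th.c, Cfsg.Spor.Th.d, Cfsg.Spor.Th.e,
          Cfsg.Spor.Th.s, Cfsg.Spor.Th.t, Cfsg.Spor.Th.u, map_mul, map_pow, map_inv, FreeGroup.lift_apply_of, img]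
      · exact (pow_two A).trans hA2
      · exact (pow_two B).trans hB2
      · exact (pow_two C).trans hC2
      · exact (pow_two D).trans hD2
      · exact (pow_two E).trans hE2
      · exact hAB.trans hA2
      · exact hAE
      · exact hBC.trans hA2
      · exact hBD
      · exact hBE
      · exact hACD
      · exact hCE
      · exact hDE
      · rw [mul_assoc, mul_assoc]; exact hbig
      · exact hS7
      · exact hSA
      · exact hSB
      · exact hSC
      · exact hSD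
      · exact hESr
      · exact hT3
      · exact commT A htA
      · exact commT B htB
      · exact commT C htC
      · exact commT D htD
      · exact commT E htE
      · exact hST
  have hcomp : σ.comp (PresentedGroup.toGroup hkill) = iota := by
    refine PresentedGroup.ext fun g => ?_
    rw [MonoidHom.comp_apply, iota, PresentedGroup.toGroup.of, PresentedGroup.toGroup.of]
    cases g
    all_goals first | exact hA | exact hB | exact hC | exact hD | exact hE | exact hS | exact hT | exact map_one σ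
  refine ⟨⟨PresentedGroup.toGroup hkill, u, fun x => DFunLike.congr_fun hcomp x, hu, ?_⟩⟩
  have e12 : hev 12 = PresentedGroup.of Cfsg.Spor.Th.Gen.t := rfl
  have e13 : hev 13 = (PresentedGroup.of Cfsg.Spor.Th.Gen.t)⁻¹ := rfl
  simp only [evW_cons, evW_nil, mul_one, e12, e13, map_inv, PresentedGroup.toGroup.of]
  exact hTu

end CfsgLib.ThMult
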