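import Cfsg.Agent.Lib.ThMult.Equations
import Cfsg.Agent.Lib.ThMult.Normal
import Cfsg.Agent.Lib.HNMult.Core
import Cfsg.Prelude.Def_KGroupFacts

/-!
Every central extension of the presented Thompson group has a section, so its Schur multiplier is trivial as
soon as the group is known to be finite.
-/
set_option autoImplicit false
set_option maxRecDepth 8000

namespace CfsgLib.ThMult

open CfsgLib.Presented CfsgLib.Th
open Cfsg.Spor (Th)

/-- If the subgroup presentation does not embed, the presented group is trivial. -/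
theorem subsingleton_of_not_injective (h : ¬ Function.Injective iota) : Subsingleton Cfsg.Spor.Th := by
  have ha : iota (hev 0) = 1 :=
    MonoidHom.mem_ker.1 (a_mem_normal iota.ker inferInstance fun hb => h ((MonoidHom.ker_eq_bot_iff iota).1 hb))
  have o1 : ev 1 = (ev 0)⁻¹ := rfl
  have o3 : ev 3 = (ev 2)⁻¹ := rfl
  have o5 : ev 5 = (ev 4)⁻¹ := rfl
  have o7 : ev 7 = (ev 6)⁻¹ := rfl
  have o9 : ev 9 = (ev 8)⁻¹ := rfl
  have o11 : ev 11 = (ev 10)⁻¹ := rfl
  have o13 : ev 13 = (ev 12)⁻¹ := rfl
  have o15 : ev 15 = (ev 14)⁻¹ := rfl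
  have a1 : ev 0 = 1 := by
    rw [← ha]
    simpa using (iota_evW (w := [0]) (by decide)).symm
  have get : ∀ w, relWords.contains w = true → evW ev w = 1 := fun w hw =>
    rels_hold w (List.contains_iff_mem.1 hw)
  have sq : ∀ x : Cfsg.Spor.Th, x * x = 1 → x⁻¹ = x := fun x hx => inv_eq_of_mul_eq_one_right hx
  have rb := get [2, 2] (by decide +kernel)
  have rc := get [4, 4] (by decide +kernel)
  have rd := get [6, 6] (by decide +kernel)
  have re := get [8, 8] (by decide +kernel)
  have rab := get [0, 2, 0, 2, 0, 2] (by decide +kernel)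
  have rbc := get [2, 4, 2, 4, 2, 4] (by decide +kernel)
  have rbd := get [2, 6, 2, 6] (by decide +kernel)
  have rde := get [6, 8, 6, 8, 6, 8] (by decide +kernel)
  have rbig := get (wpow [2, 4, 6, 8] 8) (by decide +kernel)
  have rs := get [10, 10, 10, 10, 10, 10, 10] (by decide +kernel)
  have rsd := get [10, 6, 10, 6] (by decide +kernel)
  have res := get [9, 11, 8, 11, 11, 9, 10, 10, 10] (by decide +kernel)
  have rt := get [12, 12, 12] (by decide +kernel)
  have rtu := get [15, 12, 14, 12] (by decide +kernel)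
  have ruu := get [14, 14, 5, 1] (by decide +kernel)
  have rde2 := get [6, 8, 15, 6, 14, 6, 8, 15, 6, 14] (by decide +kernel)
  have rue := get [15, 3, 5, 1, 2, 14, 3, 0, 4, 2, 9] (by decide +kernel)
  have rm := get [0, 4, 11, 15, 11, 15, 11, 15] (by decide +kernel)
  simp only [evW_cons, evW_nil, evW_wpow, mul_one, o1, o3, o5, o7, o9, o11, o13, o15, a1, inv_one, one_mul] at rb rc rd re rab rbc rbd rde rbig rs rsd res rt rtu ruu rde2 rue rm
  have three : ∀ x : Cfsg.Spor.Th, x * x = 1 → x * (x * x) = 1 → x = 1 := fun x h2 h3 => by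
    rwa [h2, mul_one] at h3
  have b1 : ev 2 = 1 := three _ rb rab
  simp only [b1, inv_one, one_mul, mul_one] at rbc rbd rbig rue
  have c1 : ev 4 = 1 := three _ rc rbc
  simp only [c1, inv_one, one_mul, mul_one] at rbig ruu rue rm
  have e1 : ev 8 = 1 := by
    have h := rue
    simpa using h
  simp only [e1, inv_one, one_mul, mul_one] at rde rbig res
  have d1 : ev 6 = 1 := three _ rd rde
  simp only [d1, inv_one, one_mul, mul_one] at rsd
  have s1 : ev 10 = 1 := by
    have h2 : ev 10 * ev 10 = 1 := rsd
    have h := rs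
    simpa only [← mul_assoc, h2, one_mul, mul_one] using h
  simp only [s1, inv_one, one_mul, mul_one] at rm
  have u1 : ev 14 = 1 := by
    have h2 : ev 14 * ev 14 = 1 := ruu
    rw [sq _ h2] at rm
    exact three _ h2 rm
  simp only [u1, inv_one, one_mul, mul_one] at rtu
  have t1 : ev 12 = 1 := three _ rtu rt
  have hall : ∀ x, x < alphabet.eps → ev x = 1 := by
    intro x hx
    change x < 16 at hx
    interval_cases x <;> simp [o1, o3, o5, o7, o9, o11, o13, o15, a1, b1, c1, d1, e1, s1, t1, u1]
  refine subsingleton_of_forall_eq 1 fun g => ?_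
  have hg : g ∈ Subgroup.closure (ev '' Set.Iio alphabet.eps) := by rw [gen_top]; exact Subgroup.mem_top g
  have hle : Subgroup.closure (ev '' Set.Iio alphabet.eps) ≤ ⊥ := by
    rw [Subgroup.closure_le]
    rintro _ ⟨x, hx, rfl⟩
    exact hall x hx
  exact Subgroup.mem_bot.1 (hle hg)

variable {Γ : Type} [Group Γ] {σ : Γ →* Cfsg.Spor.Th}

/-- rescaling the lift of the extra generator -/
noncomputable def Lifts.scale (L : Lifts σ) (hc : σ.ker ≤ Subgroup.center Γ) (c : Γ) (h : σ c = 1) : Lifts σ :=
  { L with
    u := L.u * c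
    map_u := by rw [map_mul, L.map_u, h, mul_one]
    comm_t := by
      rw [← mul_assoc, L.comm_t, mul_assoc, mul_assoc,
        Subgroup.mem_center_iff.1 (hc (MonoidHom.mem_ker.2 h)) (L.h (evW hev [13]))] }

theorem Lifts.scale_seg (L : Lifts σ) (hc : σ.ker ≤ Subgroup.center Γ) (c : Γ) (h : σ c = 1) :
    ∀ l : List (List ℕ), (L.scale hc c h).seg l = L.seg l * c ^ l.length
  | [] => by rw [Lifts.seg_nil, Lifts.seg_nil, List.length_nil, pow_zero, mul_one]
  | s :: l => by
    have hcc : ∀ g : Γ, Commute c g := fun g => (Subgroup.mem_center_iff.1 (hc (MonoidHom.mem_ker.2 h)) g).symm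
    rw [Lifts.seg_cons, Lifts.seg_cons, Lifts.scale_seg L hc c h l, List.length_cons, pow_succ']
    show L.u * c * L.hw s * (L.seg l * c ^ l.length) = _
    calc L.u * c * L.hw s * (L.seg l * c ^ l.length)
        = L.u * (c * (L.hw s * L.seg l)) * c ^ l.length := by group
      _ = L.u * L.hw s * L.seg l * (c * c ^ l.length) := by rw [(hcc (L.hw s * L.seg l)).eq]; group

/-- relator words other than those of the subgroup come from the segments -/
theorem relWords_split : (relWords.all fun w => (w.all noU && hWords.contains w) ||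
    ((List.range 12).any fun b => listEq (relSrc.getD b ([], [], 0)).2.1 w)) = true := by decide +kernel

theorem Lifts.exists_section (hs : Function.Surjective σ) (hc : σ.ker ≤ Subgroup.center Γ)
    (hinj : Function.Injective iota) : ∃ τ : Cfsg.Spor.Th →* Γ, σ.comp τ = MonoidHom.id _ := by
  obtain ⟨L0⟩ := exists_lifts hs hc hinj
  have hcz : σ ((L0.z 9)⁻¹ * L0.z 0) = 1 := by rw [map_mul, map_inv, L0.map_z, L0.map_z, inv_one, one_mul]
  let L := L0.scale hc ((L0.z 9)⁻¹ * L0.z 0) hcz
  have h09 : L.z 9 = L.z 0 := by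
    have e9 : L.z 9 = L0.z 9 * ((L0.z 9)⁻¹ * L0.z 0) ^ 3 := by
      show L.seg (relSegs.getD 9 []) = L0.seg (relSegs.getD 9 []) * _
      rw [Lifts.scale_seg]
      rfl
    have e0 : L.z 0 = L0.z 0 * ((L0.z 9)⁻¹ * L0.z 0) ^ 2 := by
      show L.seg (relSegs.getD 0 []) = L0.seg (relSegs.getD 0 []) * _
      rw [Lifts.scale_seg]
      rfl
    rw [e9, e0, pow_succ' _ 2, ← mul_assoc, mul_inv_cancel_left]
  have hfree : ∀ x, σ (L.h x) = 1 → L.h x = 1 := fun x hx => by
    rw [hinj (((L.map_h x).symm.trans hx).trans (map_one iota).symm), map_one]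
  have hz := Lifts.z_eq_one L hc hfree h09
  let g : Cfsg.Spor.Th.Gen → Γ := fun x => match x with | .u => L.u | x => L.h (PresentedGroup.of x)
  set ev' := letters.ev g with hev'
  have hgood : alphabet.Good ev' := by
    refine ⟨Letters.ev_eps (L := letters), fun x hx => ?_⟩
    rcases Nat.eq_or_lt_of_le hx with rfl | h
    · rw [show alphabet.invl alphabet.eps = alphabet.eps by decide +kernel,
        show ev' alphabet.eps = 1 from Letters.ev_eps (L := letters), one_mul]
    · exact Letters.ev_inv letters_valid (fun g hg => absurd hg (by simp [letters])) x h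
  have hnoU : ∀ w : List ℕ, w.all noU = true → evW ev' w = L.hw w := by
    intro w hw
    rw [Lifts.hw, map_evW]
    refine letters_ev_congr (fun x hx => ?_) hw
    simp only [noU, Nat.blt_eq] at hx
    interval_cases x <;> rfl
  have hz0 : L.u * L.u = L.hw [0, 4] := by rw [L.uu hc, hz 0 (by decide), one_mul]
  have h15 : ev' 15 = L.u * L.hw [4, 0] := by
    have h40 : L.hw [4, 0] = (L.hw [0, 4])⁻¹ := by
      rw [← L.hw_invWord (by decide)]
      exact L.hw_same (by decide +kernel)
    show L.u⁻¹ = _
    rw [h40, ← hz0, mul_inv_rev, mul_inv_cancel_left]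
  have hexp : ∀ w : List ℕ, evW ev' (expand w) = evW ev' w := by
    intro w
    induction w with
    | nil => rfl
    | cons x w ih =>
      rw [show expand (x :: w) = (if x = 15 then [14, 4, 0] else [x]) ++ expand w from rfl, evW_append, ih,
        evW_cons]
      split_ifs with h
      · subst h
        rw [h15, ← hnoU [4, 0] (by decide)]
        simp only [evW_cons, evW_nil, mul_one]
        rfl
      · simp
  have hseg : ∀ l : List (List ℕ), (∀ s ∈ l, s.all noU = true) → evW ev' (l.flatMap fun s => 14 :: s) = L.seg l := by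
    intro l hl
    induction l with
    | nil => rfl
    | cons s l ih =>
      rw [List.flatMap_cons, evW_append, evW_cons, L.seg_cons, ih fun z hz' => hl z (List.mem_cons_of_mem _ hz'),
        hnoU s (hl s List.mem_cons_self)]
      rfl
  have hrel : ∀ w ∈ relWords, evW ev' w = 1 := by
    intro w hw
    have h := List.all_eq_true.1 relWords_split w hw
    simp only [Bool.or_eq_true, Bool.and_eq_true, List.any_eq_true, List.mem_range] at h
    rcases h with ⟨h1, h2⟩ | ⟨b, hb, he⟩
    · rw [hnoU w h1, Lifts.hw, hrels_hold w (List.contains_iff_mem.1 h2), map_one]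
    · obtain rfl := listEq_eq he
      have hok := List.all_eq_true.1 relSegs_ok b (List.mem_range.2 (by
        show b < 12
        exact hb))
      simp only [srcOK, Bool.and_eq_true, List.all_eq_true, Nat.ble_eq, List.contains_iff_mem] at hok
      obtain ⟨⟨⟨⟨⟨-, hp⟩, hw1⟩, hw2⟩, hs'⟩, hrot⟩ := hok
      have h1 := hseg _ fun s hsm => List.all_eq_true.2 (hs' s hsm).1
      have hzb : L.seg (relSegs.getD b []) = 1 := by
        have h := hz b (by omega)
        rwa [Lifts.z, if_pos hb] at h
      rw [hzb, ← listEq_eq hrot] at h1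
      have h2 : evW ev' (expand (relSrc.getD b ([], [], 0)).1) = 1 := by
        have := evW_rotate_eq_one ev' h1
        rwa [List.take_append_drop] at this
      rw [hexp] at h2
      have e := pushAll_ev hgood [] hw1
      rw [listEq_eq hp, pushAll_ev hgood [] hw2] at e
      simp only [List.reverse_nil, evW_nil, one_mul] at e
      rw [e]
      exact h2
  have hk := Letters.kills (L := letters) (f := g) (edges := Cfsg.Spor.Th.edges) (extra := Cfsg.Spor.Th.extra)
    letters_valid nodes_valid full (fun g hg => absurd hg (by simp [letters]))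
    (fun w hw => hrel w (by rw [relWords_eq]; exact List.mem_append.2 (Or.inl hw)))
    (fun w hw => hrel w (by rw [relWords_eq]; exact List.mem_append.2 (Or.inr hw)))
  refine ⟨PresentedGroup.toGroup hk, PresentedGroup.ext fun x => ?_⟩
  rw [MonoidHom.comp_apply, PresentedGroup.toGroup.of, MonoidHom.id_apply]
  have hi : ∀ y, iota (PresentedGroup.of y) = hGenMap y := fun y => by simp [iota, PresentedGroup.toGroup.of]
  cases x <;> first | exact L.map_u | exact (L.map_h _).trans (hi _)

/-- The kernel of a stem extension of the presented group is trivial. -/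
theorem stem_ker_bot (h : Cfsg.IsStemExtension σ) : σ.ker = ⊥ := by
  obtain ⟨hs, hc, hd⟩ := h
  by_cases hinj : Function.Injective iota
  · obtain ⟨τ, hτ⟩ := Lifts.exists_section hs hc hinj
    exact HNMult.ker_bot_of_section hc hd hτ
  · have := subsingleton_of_not_injective hinj
    exact HNMult.ker_bot_of_section hc hd (τ := 1) (MonoidHom.ext fun x => Subsingleton.elim _ _)

/-- The multiplier of the presented Thompson group is trivial, given that the group is finite. -/
theorem multiplier_of_finite [Finite Cfsg.Spor.Th] : Cfsg.HasCyclicSchurMultiplier Cfsg.Spor.Th 1 := by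
  constructor
  · refine ⟨Cfsg.Spor.Th, inferInstance, inferInstance, MonoidHom.id _,
      ⟨Function.surjective_id, ?_, ?_⟩, ⟨?_⟩⟩
    · intro a ha; rw [MonoidHom.mem_ker, MonoidHom.id_apply] at ha; rw [ha]; exact one_mem _
    · intro a ha; rw [MonoidHom.mem_ker, MonoidHom.id_apply] at ha; rw [ha]; exact one_mem _
    · haveI : Subsingleton (MonoidHom.id Cfsg.Spor.Th).ker :=
        ⟨fun a b => Subtype.ext ((MonoidHom.mem_ker.1 a.2).trans (MonoidHom.mem_ker.1 b.2).symm)⟩
      exact { toFun := fun _ => 1, invFun := fun _ => 1, left_inv := fun a => Subsingleton.elim _ _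
              right_inv := fun a => Subsingleton.elim _ _, map_mul' := fun a b => Subsingleton.elim _ _ }
  · intro Γ _ _ σ h
    refine ⟨1, fun a => ⟨1, ?_⟩⟩
    rw [MonoidHom.one_apply]
    exact Subtype.ext ((Subgroup.eq_bot_iff_forall _).1 (stem_ker_bot h) _ a.2).symm

end CfsgLib.ThMult
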