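import Cfsg.Agent.Lib.Th.Dce
import Cfsg.Agent.Lib.ThMult.Lift

/-!
The double coset enumeration replayed in a central extension: every checked record acquires a central shift,
written as an exponent vector in the unknown values of the relators, and closed scans give equations between them.
-/
set_option autoImplicit false
set_option maxRecDepth 8000

namespace CfsgLib.ThMult

open CfsgLib.Presented CfsgLib.Th

/-! ### exponent vectors -/

/-- sum of vectors of possibly different lengths -/
def vadd : List ℤ → List ℤ → List ℤ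
  | [], b => b
  | a, [] => a
  | x :: a, y :: b => (x + y) :: vadd a b

/-- negated vector -/
def vneg (a : List ℤ) : List ℤ := a.map fun x => -x

/-- multiple of a vector -/
def vsmul (c : ℤ) (a : List ℤ) : List ℤ := a.map fun x => c * x

/-- difference of vectors -/
def vsub (a b : List ℤ) : List ℤ := vadd a (vneg b)

/-- unit vector -/
def vunit (n : ℕ) : List ℤ := List.replicate n 0 ++ [1]

/-- equal vectors, up to trailing zeros -/
def vsame (a b : List ℤ) : Bool := (vsub a b).all fun x => decide (x = 0)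

variable {Γ : Type} [Group Γ] {σ : Γ →* Cfsg.Spor.Th}

/-- a word of the subgroup in the extension -/
noncomputable def Lifts.hw (L : Lifts σ) (w : List ℕ) : Γ := L.h (evW hev w)

/-- a product of segments in the extension -/
noncomputable def Lifts.seg (L : Lifts σ) (l : List (List ℕ)) : Γ := (l.map fun s => L.u * L.hw s).prod

/-- the unknown values: the relators, then the commutation of the subgroup normalised by `u` -/
noncomputable def Lifts.z (L : Lifts σ) (n : ℕ) : Γ :=
  if n < 12 then L.seg (relSegs.getD n [])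
  else (L.u * L.hw (lImgs.getD (n - 12) []))⁻¹ * (L.hw (lGens.getD (n - 12) []) * L.u)

/-- value of a vector -/
noncomputable def Lifts.valFrom (L : Lifts σ) : ℕ → List ℤ → Γ
  | _, [] => 1
  | n, x :: l => L.z n ^ x * L.valFrom (n + 1) l

/-- value of a vector -/
noncomputable abbrev Lifts.val (L : Lifts σ) (v : List ℤ) : Γ := L.valFrom 0 v

variable (L : Lifts σ) (hc : σ.ker ≤ Subgroup.center Γ)

theorem Lifts.map_hw (w : List ℕ) : σ (L.hw w) = hv w := L.map_h _

theorem Lifts.hw_append (u v : List ℕ) : L.hw (u ++ v) = L.hw u * L.hw v := by simp [Lifts.hw, evW_append]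

theorem Lifts.hw_nil : L.hw [] = 1 := by simp [Lifts.hw]

theorem Lifts.hw_same {w1 w2 : List ℕ} (h : same w1 w2 = true) : L.hw w1 = L.hw w2 := by
  rw [Lifts.hw, Lifts.hw, same_spec h]

theorem Lifts.hw_invWord {w : List ℕ} (hw : small w = true) : L.hw (invWord alphabet w) = (L.hw w)⁻¹ := by
  simp only [small, List.all_eq_true, Nat.blt_eq] at hw
  rw [Lifts.hw, evW_invWord (letters_good (extra := hExtra)) (fun y hy => (hw y hy).le), map_inv, Lifts.hw]

theorem Lifts.seg_nil : L.seg [] = 1 := rfl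

theorem Lifts.seg_cons (s : List ℕ) (l : List (List ℕ)) : L.seg (s :: l) = L.u * L.hw s * L.seg l := by
  simp [Lifts.seg]

theorem Lifts.seg_append (l l' : List (List ℕ)) : L.seg (l ++ l') = L.seg l * L.seg l' := by
  simp [Lifts.seg]

theorem Lifts.map_seg : ∀ l : List (List ℕ), σ (L.seg l) = segProd l
  | [] => by rw [L.seg_nil, map_one, segProd_nil]
  | s :: l => by rw [L.seg_cons, segProd_cons, map_mul, map_mul, L.map_u, L.map_hw, Lifts.map_seg l]

theorem Lifts.map_z (n : ℕ) : σ (L.z n) = 1 := by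
  unfold Lifts.z
  split
  · rw [L.map_seg]
    simpa [rotSegs] using segProd_rotSegs n 0
  · rw [map_mul, map_inv, map_mul, map_mul, L.map_u, L.map_hw, L.map_hw, lGens_comm, inv_mul_cancel]

theorem Lifts.map_valFrom : ∀ (v : List ℤ) (n : ℕ), σ (L.valFrom n v) = 1
  | [], _ => map_one σ
  | x :: l, n => by rw [Lifts.valFrom, map_mul, map_zpow, L.map_z, Lifts.map_valFrom l, one_zpow, one_mul]

include hc

theorem Lifts.z_comm (n : ℕ) (g : Γ) : Commute (L.z n) g :=
  (Subgroup.mem_center_iff.1 (hc (MonoidHom.mem_ker.2 (L.map_z n))) g).symm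

theorem Lifts.valFrom_comm (v : List ℤ) (n : ℕ) (g : Γ) : Commute (L.valFrom n v) g :=
  (Subgroup.mem_center_iff.1 (hc (MonoidHom.mem_ker.2 (L.map_valFrom v n))) g).symm

theorem Lifts.valFrom_vadd : ∀ (a b : List ℤ) (n : ℕ), L.valFrom n (vadd a b) = L.valFrom n a * L.valFrom n b
  | [], b, n => by simp [vadd, Lifts.valFrom]
  | x :: a, [], n => by simp [vadd, Lifts.valFrom]
  | x :: a, y :: b, n => by
    simp only [vadd, Lifts.valFrom, Lifts.valFrom_vadd a b (n + 1), zpow_add]
    exact ((L.valFrom_comm hc a (n + 1) (L.z n ^ y)).symm).mul_mul_mul_comm (L.z n ^ x) _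

theorem Lifts.valFrom_vneg : ∀ (a : List ℤ) (n : ℕ), L.valFrom n (vneg a) = (L.valFrom n a)⁻¹
  | [], n => by simp [vneg, Lifts.valFrom]
  | x :: a, n => by
    have ih := Lifts.valFrom_vneg a (n + 1)
    simp only [vneg] at ih
    simp only [vneg, List.map_cons, Lifts.valFrom, ih, zpow_neg, mul_inv_rev]
    exact ((L.valFrom_comm hc a (n + 1) (L.z n ^ x)).inv_inv).eq.symm

theorem Lifts.valFrom_vsmul (c : ℤ) : ∀ (a : List ℤ) (n : ℕ), L.valFrom n (vsmul c a) = L.valFrom n a ^ c
  | [], n => by simp [vsmul, Lifts.valFrom]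
  | x :: a, n => by
    have ih := Lifts.valFrom_vsmul c a (n + 1)
    simp only [vsmul] at ih
    simp only [vsmul, List.map_cons, Lifts.valFrom, ih]
    rw [((L.valFrom_comm hc a (n + 1) (L.z n ^ x)).symm).mul_zpow, mul_comm c x, zpow_mul]

theorem Lifts.val_vsub (a b : List ℤ) : L.val (vsub a b) = L.val a * (L.val b)⁻¹ := by
  rw [vsub, Lifts.val, L.valFrom_vadd hc, L.valFrom_vneg hc]

omit hc in
theorem Lifts.valFrom_vunit : ∀ (n m : ℕ), L.valFrom m (vunit n) = L.z (m + n)
  | 0, m => by simp [vunit, Lifts.valFrom]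
  | n + 1, m => by
    have ih := Lifts.valFrom_vunit n (m + 1)
    simp only [vunit] at ih
    simp only [vunit, List.replicate_succ, List.cons_append, Lifts.valFrom, zpow_zero, one_mul, ih]
    congr 1
    omega

omit hc in
theorem Lifts.val_vunit (n : ℕ) : L.val (vunit n) = L.z n := by
  rw [Lifts.val, L.valFrom_vunit n 0, Nat.zero_add]

omit hc in
theorem Lifts.valFrom_zero : ∀ (v : List ℤ) (n : ℕ), v.all (fun x => decide (x = 0)) = true → L.valFrom n v = 1
  | [], _, _ => rfl
  | x :: l, n, h => by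
    simp only [List.all_cons, Bool.and_eq_true, decide_eq_true_eq] at h
    rw [Lifts.valFrom, h.1, zpow_zero, one_mul, Lifts.valFrom_zero l _ h.2]

theorem Lifts.val_vsame {a b : List ℤ} (h : vsame a b = true) : L.val a = L.val b := by
  have h1 := L.valFrom_zero (vsub a b) 0 h
  rwa [← Lifts.val, L.val_vsub hc, mul_inv_eq_one] at h1

theorem Lifts.uu : L.u * L.u = L.z 0 * L.hw [0, 4] := by
  have h : L.z 0 = L.u * L.u * L.hw [5, 1] := by
    rw [show L.z 0 = L.seg (relSegs.getD 0 []) from rfl, show relSegs.getD 0 [] = [[], [5, 1]] from rfl,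
      L.seg_cons, L.seg_cons, L.seg_nil, L.hw_nil]
    group
  have h2 : L.hw [5, 1] = (L.hw [0, 4])⁻¹ := by
    rw [← L.hw_invWord (by decide)]
    exact congrArg L.hw (by decide +kernel)
  rw [h, h2, inv_mul_cancel_right]

theorem Lifts.uhu : L.u * L.hw [5, 1] * L.u = L.z 0 := by
  have h2 : L.hw [5, 1] = (L.hw [0, 4])⁻¹ := by
    rw [← L.hw_invWord (by decide)]
    exact congrArg L.hw (by decide +kernel)
  have h3 : L.hw [0, 4] = (L.z 0)⁻¹ * (L.u * L.u) := by rw [L.uu hc, inv_mul_cancel_left]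
  rw [h2, h3, mul_inv_rev, inv_inv, mul_inv_rev]
  calc L.u * (L.u⁻¹ * L.u⁻¹ * L.z 0) * L.u = L.u⁻¹ * (L.z 0 * L.u) := by group
    _ = L.z 0 := by rw [(L.z_comm hc 0 L.u).eq, inv_mul_cancel_left]

/-! ### shifts -/

omit hc

/-- the stored vectors and the certificate -/
structure ZCert where
  base : Cert
  vecs : List (List ℤ)

/-- stored shift of a record -/
def ZCert.V (d : ZCert) (n : ℕ) : List ℤ := d.vecs.getD n []

/-- shift of a product of stabilising elements -/
noncomputable def ZCert.kV (d : ZCert) : List ℕ → List ℤ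
  | [] => []
  | id :: ks => vadd (cond (Nat.beq (id % 2) 0) (d.V (id / 2)) (vneg (d.V (id / 2)))) (d.kV ks)

/-- shift of a product in the subgroup normalised by `u` -/
noncomputable def lV : List ℕ → List ℤ
  | [] => []
  | id :: l => vadd (cond (Nat.beq (id % 2) 0) (vunit (12 + id / 2)) (vneg (vunit (12 + id / 2)))) (lV l)

/-- shift of a canonical form -/
noncomputable def ZCert.canonV (d : ZCert) (i : ℕ) (k : List ℕ) : List ℤ := cond (Nat.beq i 0) [] (d.kV k)

/-- the orbit of a record -/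
def Rec.orbit : Rec → ℕ
  | .edge i _ _ _ _ _ _ => i
  | .stab i _ _ => i

/-- shift of a step -/
noncomputable def ZCert.stepV (d : ZCert) (st : Step) : List ℤ :=
  vadd (d.canonV (Rec.orbit (d.base.recs.get st.e)) st.k) (vadd (lV st.l) (d.V st.e))

/-- shift of a forward run -/
noncomputable def ZCert.fV (d : ZCert) : List Step → List ℤ
  | [] => []
  | st :: sts => vadd (d.stepV st) (d.fV sts)

/-- shift of a backward run -/
noncomputable def ZCert.bV (d : ZCert) : List Step → List ℤ
  | [] => []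
  | st :: sts => vadd (vsub (vunit 0) (d.stepV st)) (d.bV sts)

/-- shift found by a scan -/
noncomputable def ZCert.scanV (d : ZCert) (s : Scan) : List ℤ :=
  vsub (vunit s.b) (vadd (d.fV s.fs) (d.bV s.bs))

/-- shift of a source -/
noncomputable def ZCert.srcV (d : ZCert) : ESrc → List ℤ
  | .dfn _ => []
  | .rev e => vsub (vunit 0) (d.V e)
  | .recan e => d.V e
  | .scan s => d.scanV s

/-- shift of a record -/
noncomputable def ZCert.recV (d : ZCert) : Rec → List ℤ
  | .edge i _ _ _ src k l => vsub (d.srcV src) (vadd (d.canonV i k) (lV l))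
  | .stab _ _ (.cmp e1 e2 k l) =>
    vsub (vadd (d.V e2) (vadd (lV l) (d.canonV (Rec.orbit (d.base.recs.get e2)) k))) (d.V e1)
  | .stab _ _ (.scan s) => d.scanV s

/-- check a record and its shift -/
noncomputable def ZCert.chk (d : ZCert) (n : ℕ) : Bool :=
  d.base.chk n && Nat.blt n 10000 && vsame (d.recV (d.base.recs.get n)) (d.V n)

/-- right action on the cosets of the lifted subgroup -/
noncomputable def Lifts.rt (q : Γ ⧸ L.h.range) (g : Γ) : Γ ⧸ L.h.range := g⁻¹ • q

theorem Lifts.rt_mul (q : Γ ⧸ L.h.range) (g g' : Γ) : L.rt q (g * g') = L.rt (L.rt q g) g' := by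
  simp [Lifts.rt, mul_smul]

theorem Lifts.rt_one (q : Γ ⧸ L.h.range) : L.rt q 1 = q := by simp [Lifts.rt]

theorem Lifts.rt_inj {q q' : Γ ⧸ L.h.range} {g : Γ} (h : L.rt q g = L.rt q' g) : q = q' :=
  MulAction.injective g⁻¹ h

theorem Lifts.rt_inv {q q' : Γ ⧸ L.h.range} {g : Γ} (h : L.rt q g = q') : q = L.rt q' g⁻¹ := by
  rw [← h, ← L.rt_mul, mul_inv_cancel, L.rt_one]

/-- the named coset of an orbit -/
noncomputable def Lifts.C (d : ZCert) (j : ℕ) : Γ ⧸ L.h.range :=
  if (d.base.defs.getD j (0, [])).1 < j then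
    L.rt (L.rt (Lifts.C d (d.base.defs.getD j (0, [])).1) (L.hw (d.base.defs.getD j (0, [])).2)) L.u
  else ((1 : Γ) : Γ ⧸ L.h.range)
termination_by j

/-- the coset of a state -/
noncomputable def Lifts.pt (d : ZCert) (p : ℕ × List ℕ) : Γ ⧸ L.h.range := L.rt (L.C d p.1) (L.hw p.2)

variable (d : ZCert)

theorem Lifts.C_zero : L.C d 0 = ((1 : Γ) : Γ ⧸ L.h.range) := by rw [Lifts.C]; simp

theorem Lifts.rt_base (w : List ℕ) : L.rt ((1 : Γ) : Γ ⧸ L.h.range) (L.hw w) = ((1 : Γ) : Γ ⧸ L.h.range) := by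
  rw [Lifts.rt, MulAction.Quotient.smul_coe, smul_eq_mul, mul_one, QuotientGroup.eq, inv_inv, mul_one]
  exact ⟨_, rfl⟩

theorem Lifts.pt_zero (h : List ℕ) : L.pt d (0, h) = ((1 : Γ) : Γ ⧸ L.h.range) := by
  rw [Lifts.pt, L.C_zero, L.rt_base]

theorem Lifts.pt_append (i : ℕ) (u v : List ℕ) : L.pt d (i, u ++ v) = L.rt (L.pt d (i, u)) (L.hw v) := by
  rw [Lifts.pt, Lifts.pt, L.hw_append, L.rt_mul]

theorem Lifts.pt_congr {i : ℕ} {u v : List ℕ} (h : (Nat.beq i 0 || same u v) = true) :
    L.pt d (i, u) = L.pt d (i, v) := by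
  rw [Bool.or_eq_true] at h
  rcases h with h | h
  · rw [Nat.eq_of_beq_eq_true h, L.pt_zero, L.pt_zero]
  · rw [Lifts.pt, Lifts.pt, L.hw_same h]

include hc

theorem Lifts.rt_swap (q : Γ ⧸ L.h.range) (v : List ℤ) (g : Γ) :
    L.rt (L.rt q (L.val v)) g = L.rt (L.rt q g) (L.val v) := by
  rw [← L.rt_mul, ← L.rt_mul, (L.valFrom_comm hc v 0 g).eq]

theorem Lifts.rt_add (q : Γ ⧸ L.h.range) (a b : List ℤ) :
    L.rt (L.rt q (L.val a)) (L.val b) = L.rt q (L.val (vadd a b)) := by
  rw [← L.rt_mul, Lifts.val, Lifts.val, Lifts.val, L.valFrom_vadd hc]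

theorem Lifts.lWord_comm : ∀ l : List ℕ,
    L.hw (lWord lGens l) * L.u = L.u * L.hw (lWord lImgs l) * L.val (lV l)
  | [] => by simp [lWord, L.hw_nil, lV, Lifts.valFrom]
  | id :: l => by
    have ih := Lifts.lWord_comm l
    simp only [lWord] at ih
    simp only [lWord, List.flatMap_cons, L.hw_append, lV, Lifts.val, L.valFrom_vadd hc]
    rw [mul_assoc, ih]
    have hm : L.hw (lGens.getD (id / 2) []) * L.u =
        L.u * L.hw (lImgs.getD (id / 2) []) * L.z (12 + id / 2) := by
      rw [Lifts.z, if_neg (by omega), Nat.add_sub_cancel_left, mul_inv_cancel_left]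
    have key : L.hw (lPiece lGens id) * L.u = L.u * L.hw (lPiece lImgs id) *
        L.valFrom 0 (cond (Nat.beq (id % 2) 0) (vunit (12 + id / 2)) (vneg (vunit (12 + id / 2)))) := by
      simp only [lPiece]
      cases Nat.beq (id % 2) 0
      · simp only [cond_false, L.hw_invWord (lGens_small _).1, L.hw_invWord (lGens_small _).2,
          L.valFrom_vneg hc, L.valFrom_vunit, Nat.zero_add]
        generalize L.hw (lGens.getD (id / 2) []) = x at hm ⊢
        generalize L.hw (lImgs.getD (id / 2) []) = y at hm ⊢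
        have hz := (L.z_comm hc (12 + id / 2))
        generalize L.z (12 + id / 2) = zz at hm hz ⊢
        calc x⁻¹ * L.u = x⁻¹ * (L.u * y * zz) * zz⁻¹ * y⁻¹ := by group
          _ = L.u * (zz⁻¹ * y⁻¹) := by rw [← hm]; group
          _ = L.u * y⁻¹ * zz⁻¹ := by rw [((hz y⁻¹).inv_left).eq, mul_assoc]
      · simp only [cond_true, L.valFrom_vunit, Nat.zero_add]
        exact hm
    have hcz := L.valFrom_comm hc (cond (Nat.beq (id % 2) 0) (vunit (12 + id / 2)) (vneg (vunit (12 + id / 2)))) 0
      (L.hw (List.flatMap (lPiece lImgs) l))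
    generalize L.hw (lPiece lGens id) = X at key ⊢
    generalize L.valFrom 0 (cond (Nat.beq (id % 2) 0) (vunit (12 + id / 2)) (vneg (vunit (12 + id / 2)))) = Z1 at *
    calc X * (L.u * L.hw (List.flatMap (lPiece lImgs) l) * L.valFrom 0 (lV l))
        = X * L.u * L.hw (List.flatMap (lPiece lImgs) l) * L.valFrom 0 (lV l) := by group
      _ = L.u * L.hw (lPiece lImgs id) * (Z1 * L.hw (List.flatMap (lPiece lImgs) l)) * L.valFrom 0 (lV l) := by
        rw [key]; group
      _ = _ := by
        rw [hcz.eq]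
        group

variable {d} {n : ℕ}

/-- The meaning of a record in the extension. -/
def Lifts.Holds (L : Lifts σ) (d : ZCert) (n : ℕ) : Prop :=
  match d.base.recs.get n with
  | .edge i h j g _ _ _ => L.rt (L.pt d (i, h)) L.u = L.rt (L.pt d (j, g)) (L.val (d.V n))
  | .stab i w _ => L.rt (L.C d i) (L.hw w) = L.rt (L.C d i) (L.val (d.V n))

end CfsgLib.ThMult
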