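import Cfsg.Agent.Lib.ThMult.Shift

/-!
Soundness of the shift-tracking check, and the equations given by closed scans.
-/
set_option autoImplicit false
set_option maxRecDepth 8000

namespace CfsgLib.ThMult

open CfsgLib.Presented CfsgLib.Th

variable {Γ : Type} [Group Γ] {σ : Γ →* Cfsg.Spor.Th} (L : Lifts σ) (hc : σ.ker ≤ Subgroup.center Γ)
  {d : ZCert} {n : ℕ}

include hc

theorem Lifts.vadd_comm (a b : List ℤ) : L.val (vadd a b) = L.val (vadd b a) := by
  simp only [Lifts.val, L.valFrom_vadd hc]
  exact (L.valFrom_comm hc a 0 _).eq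

theorem Lifts.vadd_assoc (a b c : List ℤ) : L.val (vadd (vadd a b) c) = L.val (vadd a (vadd b c)) := by
  simp only [Lifts.val, L.valFrom_vadd hc, mul_assoc]

theorem Lifts.kWord_sound (ih : ∀ m < n, L.Holds d m) {i : ℕ} :
    ∀ {ks r : List ℕ}, d.base.kWord n i ks = some r →
      L.rt (L.C d i) (L.hw r) = L.rt (L.C d i) (L.val (d.kV ks))
  | [], r, h => by
    simp only [Cert.kWord, Option.some.injEq] at h
    subst h
    rw [L.hw_nil, ZCert.kV, Lifts.val, Lifts.valFrom]
  | id :: ks, r, h => by
    simp only [Cert.kWord] at h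
    cases hr : d.base.recs.get (id / 2) with
    | edge i' h' j' g src k l => simp [hr] at h
    | stab i' w src =>
      simp only [hr] at h
      cases hcd : (Nat.blt (id / 2) n && Nat.beq i' i && small w)
      · simp [hcd] at h
      · rw [hcd, cond_true] at h
        cases hk : d.base.kWord n i ks with
        | none => simp [hk] at h
        | some r' =>
          simp only [hk, Option.some.injEq] at h
          subst h
          simp only [Bool.and_eq_true, Nat.blt_eq] at hcd
          have hw := ih _ hcd.1.1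
          rw [Lifts.Holds, hr] at hw
          obtain rfl := Nat.eq_of_beq_eq_true hcd.1.2
          have rest := Lifts.kWord_sound ih hk
          rw [L.hw_append, L.rt_mul, ZCert.kV]
          cases Nat.beq (id % 2) 0
          · simp only [cond_false, L.hw_invWord hcd.2]
            have e : L.rt (L.C d i') (L.hw w)⁻¹ = L.rt (L.C d i') (L.val (vneg (d.V (id / 2)))) := by
              apply L.rt_inj (g := L.hw w)
              rw [← L.rt_mul, inv_mul_cancel, L.rt_one, L.rt_swap hc, hw, L.rt_add hc, Lifts.val,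
                L.valFrom_vadd hc, L.valFrom_vneg hc, mul_inv_cancel, L.rt_one]
            rw [e, L.rt_swap hc, rest, L.rt_add hc, Lifts.vadd_comm L hc]
          · simp only [cond_true]
            rw [hw, L.rt_swap hc, rest, L.rt_add hc, Lifts.vadd_comm L hc]

theorem Lifts.edgeAt_sound (ih : ∀ m < n, L.Holds d m) {e i j : ℕ} {h g : List ℕ}
    (he : d.base.edgeAt n e = some (i, h, j, g)) :
    Rec.orbit (d.base.recs.get e) = i ∧
      L.rt (L.pt d (i, h)) L.u = L.rt (L.pt d (j, g)) (L.val (d.V e)) := by
  unfold Cert.edgeAt at he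
  cases hlt : Nat.blt e n
  · simp [hlt] at he
  · rw [hlt, cond_true] at he
    rw [Nat.blt_eq] at hlt
    have hh := ih e hlt
    cases hr : d.base.recs.get e with
    | stab i' w src => simp [hr] at he
    | edge i' h' j' g' src k l =>
      simp only [hr, Option.some.injEq, Prod.mk.injEq] at he
      obtain ⟨rfl, rfl, rfl, rfl⟩ := he
      rw [Lifts.Holds, hr] at hh
      exact ⟨rfl, hh⟩

theorem Lifts.canon_sound (ih : ∀ m < n, L.Holds d m) {σ' : ℕ × List ℕ} {i : ℕ} {h k l : List ℕ}
    (hcn : d.base.canon n σ' i h k l = true) :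
    L.pt d σ' = L.rt (L.rt (L.pt d (i, h)) (L.hw (lWord lGens l))) (L.val (d.canonV i k)) := by
  obtain ⟨s1, s2⟩ := σ'
  simp only [Cert.canon, Bool.and_eq_true, Bool.or_eq_true] at hcn
  obtain ⟨h1, hcn⟩ := hcn
  obtain rfl := Nat.eq_of_beq_eq_true h1
  unfold ZCert.canonV
  cases hi : Nat.beq s1 0
  · rw [hi] at hcn
    simp only [Bool.false_eq_true, false_or] at hcn
    cases hk : d.base.kWord n s1 k with
    | none => simp [hk] at hcn
    | some w =>
      simp only [hk] at hcn
      rw [L.pt_congr d (v := w ++ h ++ lWord lGens l) (by rw [hcn, Bool.or_true]), L.pt_append]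
      rw [Lifts.pt, L.hw_append, L.rt_mul, Lifts.kWord_sound L hc ih hk, L.rt_swap hc, L.rt_swap hc, cond_false]
      rfl
  · obtain rfl := Nat.eq_of_beq_eq_true hi
    rw [cond_true, Lifts.val, Lifts.valFrom, L.rt_one, L.pt_zero, L.pt_zero, L.rt_base]

theorem Lifts.move_u (i : ℕ) (h : List ℕ) (l : List ℕ) (kv : List ℤ) :
    L.rt (L.rt (L.rt (L.pt d (i, h)) (L.hw (lWord lGens l))) (L.val kv)) L.u =
      L.rt (L.rt (L.rt (L.pt d (i, h)) L.u) (L.hw (lWord lImgs l))) (L.val (vadd kv (lV l))) := by
  rw [L.rt_swap hc, ← L.rt_mul (L.pt d (i, h)), L.lWord_comm hc, L.rt_mul, L.rt_mul, L.rt_add hc,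
    Lifts.vadd_comm L hc]

theorem Lifts.step_sound (ih : ∀ m < n, L.Holds d m) {σ' τ : ℕ × List ℕ} {st : Step}
    (h : d.base.step n σ' st = some τ) : L.rt (L.pt d σ') L.u = L.rt (L.pt d τ) (L.val (d.stepV st)) := by
  unfold Cert.step at h
  cases he : d.base.edgeAt n st.e with
  | none => simp [he] at h
  | some r =>
    obtain ⟨i, h', j, g⟩ := r
    simp only [he] at h
    cases hcn : d.base.canon n σ' i h' st.k st.l
    · simp [hcn] at h
    · simp only [hcn, cond_true, Option.some.injEq] at h
      subst h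
      obtain ⟨ho, hh⟩ := Lifts.edgeAt_sound L hc ih he
      rw [Lifts.canon_sound L hc ih hcn, L.move_u hc, hh, L.rt_swap hc, L.rt_add hc, L.pt_append,
        ZCert.stepV, ho]
      congr 1
      simp only [Lifts.val, L.valFrom_vadd hc]
      rw [(L.valFrom_comm hc (d.V st.e) 0 _).eq, mul_assoc]

theorem Lifts.fRun_sound (ih : ∀ m < n, L.Holds d m) : ∀ {segs : List (List ℕ)} {sts : List Step}
    {σ' τ : ℕ × List ℕ}, d.base.fRun n σ' segs sts = some τ →
      L.rt (L.pt d σ') (L.seg segs) = L.rt (L.pt d τ) (L.val (d.fV sts))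
  | [], [], σ', τ, h => by
    simp only [Cert.fRun, Option.some.injEq] at h
    subst h
    rw [L.seg_nil, ZCert.fV, Lifts.val, Lifts.valFrom]
  | [], _ :: _, σ', τ, h => by simp [Cert.fRun] at h
  | _ :: _, [], σ', τ, h => by simp [Cert.fRun] at h
  | s :: ss, st :: sts, σ', τ, h => by
    simp only [Cert.fRun] at h
    cases hst : d.base.step n σ' st with
    | none => simp [hst] at h
    | some ρ =>
      simp only [hst] at h
      rw [L.seg_cons, L.rt_mul, L.rt_mul, Lifts.step_sound L hc ih hst, L.rt_swap hc, L.rt_swap hc,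
        ← L.pt_append, Lifts.fRun_sound ih h, L.rt_add hc, ZCert.fV, Lifts.vadd_comm L hc]

theorem Lifts.bRun_sound (ih : ∀ m < n, L.Holds d m) : ∀ {segs : List (List ℕ)} {sts : List Step}
    {σ' τ : ℕ × List ℕ}, (∀ s ∈ segs, small s = true) → d.base.bRun n σ' segs sts = some τ →
      L.rt (L.pt d τ) (L.seg segs.reverse) = L.rt (L.pt d σ') (L.val (d.bV sts))
  | [], [], σ', τ, _, h => by
    simp only [Cert.bRun, Option.some.injEq] at h
    subst h
    rw [List.reverse_nil, L.seg_nil, ZCert.bV, Lifts.val, Lifts.valFrom]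
  | [], _ :: _, σ', τ, _, h => by simp [Cert.bRun] at h
  | _ :: _, [], σ', τ, _, h => by simp [Cert.bRun] at h
  | s :: ss, st :: sts, σ', τ, hs, h => by
    simp only [Cert.bRun] at h
    cases hst : d.base.step n (σ'.1, σ'.2 ++ invWord alphabet s) st with
    | none => simp [hst] at h
    | some ρ =>
      simp only [hst] at h
      have e0 := Lifts.step_sound L hc ih hst
      have e1 := L.rt_inv e0.symm
      rw [List.reverse_cons, L.seg_append, L.rt_mul,
        Lifts.bRun_sound ih (fun z hz => hs z (List.mem_cons_of_mem _ hz)) h, L.seg_cons, L.seg_nil, mul_one,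
        L.rt_swap hc, L.pt_append, e1, L.pt_append, L.hw_invWord (hs s List.mem_cons_self), ZCert.bV,
        Lifts.vadd_comm L hc, ← L.rt_add hc]
      simp only [Lifts.val, L.val_vsub hc, ← L.rt_mul]
      rw [Lifts.valFrom_vunit, Nat.zero_add]
      congr 1
      have hk := L.valFrom_comm hc (d.stepV st) 0
      have hm := L.valFrom_comm hc (d.bV sts) 0
      have hu := L.uhu hc
      generalize L.valFrom 0 (d.stepV st) = k at hk ⊢
      generalize L.valFrom 0 (d.bV sts) = m at hm ⊢
      calc (L.hw s)⁻¹ * L.u * k⁻¹ * L.hw [5, 1] * (L.u * L.hw s) * m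
          = (L.hw s)⁻¹ * L.u * (k⁻¹ * (L.hw [5, 1] * (L.u * L.hw s))) * m := by group
        _ = (L.hw s)⁻¹ * (L.u * L.hw [5, 1] * L.u) * L.hw s * k⁻¹ * m := by
            rw [((hk (L.hw [5, 1] * (L.u * L.hw s))).inv_left).eq]; group
        _ = L.z 0 * k⁻¹ * m := by
            rw [hu, ← (L.z_comm hc 0 (L.hw s)⁻¹).eq, inv_mul_cancel_right]
        _ = m * (L.z 0 * k⁻¹) := (hm _).eq.symm

omit hc in
theorem rotSegs_getD (b k : ℕ) : ∃ u v, relSegs.getD b [] = u ++ v ∧ rotSegs b k = v ++ u :=
  ⟨_, _, (List.take_append_drop k _).symm, rfl⟩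

theorem Lifts.seg_rot (b k : ℕ) (hb : b < 12) : L.seg (rotSegs b k) = L.z b := by
  obtain ⟨u, v, h1, h2⟩ := rotSegs_getD b k
  have hz : L.z b = L.seg u * L.seg v := by rw [Lifts.z, if_pos hb, h1, L.seg_append]
  rw [h2, L.seg_append]
  calc L.seg v * L.seg u = (L.seg u)⁻¹ * (L.seg u * L.seg v * L.seg u) := by group
    _ = L.z b := by rw [← hz, (L.z_comm hc b (L.seg u)).eq, inv_mul_cancel_left]

/-- the relator of a scan is one of the twelve -/
noncomputable def scanOK (s : Scan) : Bool := Nat.blt s.b 12

theorem Lifts.scanEdge_sound (ih : ∀ m < n, L.Holds d m) {s : Scan} (hb : scanOK s = true) {f p : ℕ × List ℕ}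
    (h : d.base.scanEdge n s = some (f, p)) :
    L.rt (L.pt d f) L.u = L.rt (L.pt d p) (L.val (d.scanV s)) := by
  rw [scanOK, Nat.blt_eq] at hb
  unfold Cert.scanEdge at h
  cases hlt : Nat.blt s.a (rotSegs s.b s.k).length
  · simp [hlt] at h
  · rw [hlt, cond_true] at h
    rw [Nat.blt_eq] at hlt
    cases hf : d.base.fRun n (s.i, s.h) ((rotSegs s.b s.k).take s.a) s.fs with
    | none => simp [hf] at h
    | some f' =>
      cases hbk : d.base.bRun n (s.i, s.h) ((rotSegs s.b s.k).drop (s.a + 1)).reverse s.bs with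
      | none => simp [hf, hbk] at h
      | some b =>
        simp only [hf, hbk, Option.some.injEq, Prod.mk.injEq] at h
        obtain ⟨rfl, rfl⟩ := h
        have hmem : (rotSegs s.b s.k).getD s.a [] ∈ rotSegs s.b s.k := by
          rw [List.getD_eq_getElem _ _ hlt]
          exact List.getElem_mem hlt
        have e1 := Lifts.fRun_sound L hc ih hf
        have e2 := Lifts.bRun_sound L hc ih
          (fun z hz => rotSegs_small (List.mem_of_mem_drop (List.mem_reverse.1 hz))) hbk
        rw [List.reverse_reverse] at e2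
        have e3 : L.seg ((rotSegs s.b s.k).take s.a) * (L.u * L.hw ((rotSegs s.b s.k).getD s.a [])) *
            L.seg ((rotSegs s.b s.k).drop (s.a + 1)) = L.z s.b := by
          conv_rhs => rw [← L.seg_rot hc s.b s.k hb, ← List.take_append_drop s.a (rotSegs s.b s.k),
            List.drop_eq_getElem_cons hlt, L.seg_append, L.seg_cons, ← List.getD_eq_getElem _ [] hlt]
          group
        rw [L.pt_append, L.hw_invWord (rotSegs_small hmem)]
        generalize (rotSegs s.b s.k).getD s.a [] = sa at e3 ⊢
        generalize L.seg ((rotSegs s.b s.k).drop (s.a + 1)) = dr at e2 e3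
        generalize L.seg ((rotSegs s.b s.k).take s.a) = tk at e1 e3
        have hv : L.val (d.scanV s) = L.z s.b * (L.val (d.fV s.fs) * L.val (d.bV s.bs))⁻¹ := by
          rw [ZCert.scanV, L.val_vsub hc, L.val_vunit, Lifts.val, L.valFrom_vadd hc]
        have cf := L.valFrom_comm hc (d.fV s.fs) 0
        have cb := L.valFrom_comm hc (d.bV s.bs) 0
        have cz := L.z_comm hc s.b
        have cv := L.valFrom_comm hc (d.scanV s) 0
        simp only [Lifts.val] at e1 e2 hv
        apply L.rt_inj (g := L.hw sa * dr * L.valFrom 0 (d.fV s.fs))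
        calc L.rt (L.rt (L.pt d f') L.u) (L.hw sa * dr * L.valFrom 0 (d.fV s.fs))
            = L.rt (L.rt (L.pt d f') (L.valFrom 0 (d.fV s.fs))) (L.u * L.hw sa * dr) := by
              rw [← L.rt_mul, ← L.rt_mul, (cf _).eq]; congr 1; group
          _ = L.rt (L.pt d (s.i, s.h)) (L.z s.b) := by
              rw [← e1, ← L.rt_mul, ← e3]; congr 1; group
          _ = _ := by
              conv_rhs =>
                rw [← L.rt_mul, ← L.rt_mul, show (L.hw sa)⁻¹ * (L.valFrom 0 (d.scanV s) *
                  (L.hw sa * dr * L.valFrom 0 (d.fV s.fs))) = dr * (L.valFrom 0 (d.scanV s) *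
                    L.valFrom 0 (d.fV s.fs)) by
                  rw [(cv (L.hw sa * dr * L.valFrom 0 (d.fV s.fs))).eq]
                  rw [← (cv (L.valFrom 0 (d.fV s.fs))).symm.eq]
                  group, L.rt_mul, e2, ← L.rt_mul]
              congr 1
              rw [hv, mul_inv_rev, ((cz _).eq : L.z s.b * _ = _)]
              rw [← (cz _).eq]
              have h1 := (cb (L.z s.b)).eq
              generalize L.valFrom 0 (d.fV s.fs) = zf at cf ⊢
              generalize L.valFrom 0 (d.bV s.bs) = zb at cb h1 ⊢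
              calc L.z s.b = zb * L.z s.b * zb⁻¹ := by rw [h1, mul_inv_cancel_right]
                _ = zb * (L.z s.b * (zb⁻¹ * zf⁻¹) * zf) := by group

theorem Lifts.scanStab_sound (ih : ∀ m < n, L.Holds d m) {s : Scan} (hb : scanOK s = true) {f p : ℕ × List ℕ}
    (h : d.base.scanStab n s = some (f, p)) : L.pt d f = L.rt (L.pt d p) (L.val (d.scanV s)) := by
  rw [scanOK, Nat.blt_eq] at hb
  unfold Cert.scanStab at h
  cases hf : d.base.fRun n (s.i, s.h) ((rotSegs s.b s.k).take s.a) s.fs with
  | none => simp [hf] at h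
  | some f' =>
    cases hbk : d.base.bRun n (s.i, s.h) ((rotSegs s.b s.k).drop s.a).reverse s.bs with
    | none => simp [hf, hbk] at h
    | some b =>
      simp only [hf, hbk, Option.some.injEq, Prod.mk.injEq] at h
      obtain ⟨rfl, rfl⟩ := h
      have e1 := Lifts.fRun_sound L hc ih hf
      have e2 := Lifts.bRun_sound L hc ih
        (fun z hz => rotSegs_small (List.mem_of_mem_drop (List.mem_reverse.1 hz))) hbk
      rw [List.reverse_reverse] at e2
      have e3 : L.seg ((rotSegs s.b s.k).take s.a) * L.seg ((rotSegs s.b s.k).drop s.a) = L.z s.b := by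
        rw [← L.seg_append, List.take_append_drop, L.seg_rot hc s.b s.k hb]
      generalize L.seg ((rotSegs s.b s.k).drop s.a) = dr at e2 e3
      generalize L.seg ((rotSegs s.b s.k).take s.a) = tk at e1 e3
      have hv : L.val (d.scanV s) = L.z s.b * (L.val (d.fV s.fs) * L.val (d.bV s.bs))⁻¹ := by
        rw [ZCert.scanV, L.val_vsub hc, L.val_vunit, Lifts.val, L.valFrom_vadd hc]
      have cb := L.valFrom_comm hc (d.bV s.bs) 0
      have cf := L.valFrom_comm hc (d.fV s.fs) 0
      simp only [Lifts.val] at e1 e2 hv ⊢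
      apply L.rt_inj (g := L.valFrom 0 (d.fV s.fs) * dr)
      calc L.rt (L.pt d f') (L.valFrom 0 (d.fV s.fs) * dr) = L.rt (L.pt d (s.i, s.h)) (L.z s.b) := by
            rw [L.rt_mul, ← e1, ← L.rt_mul, e3]
        _ = _ := by
            conv_rhs =>
              rw [← L.rt_mul, show L.valFrom 0 (d.scanV s) * (L.valFrom 0 (d.fV s.fs) * dr) =
                dr * (L.valFrom 0 (d.scanV s) * L.valFrom 0 (d.fV s.fs)) by
                rw [← mul_assoc]
                exact ((L.valFrom_comm hc (d.scanV s) 0 dr).mul_left (cf dr)).eq, L.rt_mul, e2, ← L.rt_mul]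
            congr 1
            rw [hv]
            have h1 := (cb (L.z s.b)).eq
            generalize L.valFrom 0 (d.fV s.fs) = zf at cf ⊢
            generalize L.valFrom 0 (d.bV s.bs) = zb at cb h1 ⊢
            calc L.z s.b = zb * L.z s.b * zb⁻¹ := by rw [h1, mul_inv_cancel_right]
              _ = zb * (L.z s.b * (zf * zb)⁻¹ * zf) := by group

/-- scans of a record use the twelve relators -/
noncomputable def recScanOK : Rec → Bool
  | .edge _ _ _ _ (.scan s) _ _ => scanOK s
  | .stab _ _ (.scan s) => scanOK s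
  | _ => true

theorem Lifts.source_sound (ih : ∀ m < n, L.Holds d m) : ∀ {src : ESrc} {f p : ℕ × List ℕ},
    (∀ s, src = .scan s → scanOK s = true) → d.base.source n src = some (f, p) →
      L.rt (L.pt d f) L.u = L.rt (L.pt d p) (L.val (d.srcV src))
  | .dfn j, f, p, _, h => by
    simp only [Cert.source] at h
    cases hlt : Nat.blt (d.base.defs.getD j (0, [])).1 j
    · rw [hlt, cond_false] at h; simp at h
    · simp only [hlt, cond_true, Option.some.injEq, Prod.mk.injEq] at h
      obtain ⟨rfl, rfl⟩ := h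
      rw [Nat.blt_eq] at hlt
      rw [ZCert.srcV, Lifts.val, Lifts.valFrom, L.rt_one, Lifts.pt, Lifts.pt, L.hw_nil, L.rt_one]
      conv_rhs => rw [Lifts.C, if_pos hlt]
  | .rev e, f, p, _, h => by
    simp only [Cert.source] at h
    cases he : d.base.edgeAt n e with
    | none => simp [he] at h
    | some r =>
      obtain ⟨i, h', j, g⟩ := r
      simp only [he, Option.some.injEq, Prod.mk.injEq] at h
      obtain ⟨rfl, rfl⟩ := h
      have hh := L.rt_inv (Lifts.edgeAt_sound L hc ih he).2.symm
      rw [hh, ← L.rt_mul, ← L.rt_mul, L.pt_append, ZCert.srcV, L.val_vsub hc, L.val_vunit]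
      rw [← L.rt_mul]
      congr 1
      have hv := L.valFrom_comm hc (d.V e) 0
      simp only [Lifts.val]
      rw [((hv L.u).inv_left).eq, ← mul_assoc L.u, L.uu hc, (L.z_comm hc 0 (L.hw [0, 4])).eq, mul_assoc]
  | .recan e, f, p, _, h => by
    simp only [Cert.source] at h
    cases he : d.base.edgeAt n e with
    | none => simp [he] at h
    | some r =>
      obtain ⟨i, h', j, g⟩ := r
      simp only [he, Option.some.injEq, Prod.mk.injEq] at h
      obtain ⟨rfl, rfl⟩ := h
      exact (Lifts.edgeAt_sound L hc ih he).2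
  | .scan s, f, p, hok, h => Lifts.scanEdge_sound L hc ih (hok s rfl) h

theorem Lifts.chk_sound (ih : ∀ m < n, L.Holds d m) (hok : recScanOK (d.base.recs.get n) = true)
    (h : d.base.chk n = true) (hv : vsame (d.recV (d.base.recs.get n)) (d.V n) = true) : L.Holds d n := by
  have hval := L.val_vsame hc hv
  unfold Cert.chk at h
  rw [Lifts.Holds]
  cases hr : d.base.recs.get n with
  | edge i h' j g src k l =>
    simp only [hr] at h hok hval ⊢
    rw [← hval]
    cases hs : d.base.source n src with
    | none => simp [hs] at h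
    | some r =>
      obtain ⟨f, p⟩ := r
      simp only [hs, Bool.and_eq_true] at h
      obtain ⟨⟨hcn, hj⟩, hg⟩ := h
      obtain rfl := Nat.eq_of_beq_eq_true hj
      have e := Lifts.source_sound L hc ih (fun s hs' => by subst hs'; exact hok) hs
      rw [Lifts.canon_sound L hc ih hcn, L.move_u hc] at e
      apply L.rt_inj (g := L.hw (lWord lImgs l))
      rw [L.rt_swap hc, ← L.pt_append, L.pt_congr d hg]
      have e' := L.rt_inv e
      rw [e', ZCert.recV, L.val_vsub hc, ← L.rt_mul]
  | stab i w src =>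
    cases src with
    | cmp e1 e2 k l =>
      simp only [hr] at h hval ⊢
      rw [← hval]
      cases h1 : d.base.edgeAt n e1 with
      | none => simp [h1] at h
      | some r1 =>
        cases h2 : d.base.edgeAt n e2 with
        | none => simp [h1, h2] at h
        | some r2 =>
          obtain ⟨i1, a1, j1, g1⟩ := r1
          obtain ⟨i2, a2, j2, g2⟩ := r2
          simp only [h1, h2, Bool.and_eq_true] at h
          obtain ⟨⟨⟨hcn, hj1⟩, hj2⟩, hg⟩ := h
          obtain rfl := Nat.eq_of_beq_eq_true hj1
          obtain rfl := Nat.eq_of_beq_eq_true hj2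
          have e := (Lifts.edgeAt_sound L hc ih h1).2
          obtain ⟨ho, e2'⟩ := Lifts.edgeAt_sound L hc ih h2
          rw [Lifts.canon_sound L hc ih hcn, L.move_u hc, e2', L.rt_swap hc, L.rt_add hc,
            ← L.pt_congr d hg, List.append_assoc, ← L.pt_append] at e
          rw [Lifts.pt, Lifts.pt, L.hw_append w, L.rt_mul (L.C d _) (L.hw w)] at e
          apply L.rt_inj (g := L.hw (g2 ++ lWord lImgs l))
          rw [L.rt_inv e.symm, ← L.rt_mul, L.rt_swap hc, ZCert.recV, ho, L.val_vsub hc]
          congr 1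
          simp only [Lifts.val, L.valFrom_vadd hc]
          rw [(L.valFrom_comm hc (lV l) 0 _).eq]
    | scan s =>
      simp only [hr] at h hok hval ⊢
      rw [← hval]
      cases hs : d.base.scanStab n s with
      | none => simp [hs] at h
      | some r =>
        obtain ⟨f, b⟩ := r
        simp only [hs, Bool.and_eq_true] at h
        obtain ⟨⟨hf, hb⟩, hg⟩ := h
        obtain ⟨f1, f2⟩ := f
        obtain ⟨b1, b2⟩ := b
        obtain rfl := Nat.eq_of_beq_eq_true hf
        obtain rfl := Nat.eq_of_beq_eq_true hb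
        have e := Lifts.scanStab_sound L hc ih hok hs
        rw [← L.pt_congr d hg, Lifts.pt, Lifts.pt, L.hw_append, L.rt_mul] at e
        rw [← L.rt_swap hc] at e
        exact L.rt_inj e

end CfsgLib.ThMult
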