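import Cfsg.Agent.Lib.Th.Triality
import Cfsg.Agent.Lib.ThMult.Cert.UEnum
import Cfsg.Agent.Lib.ThMult.Algebra
import Mathlib.Algebra.Group.Subgroup.Pointwise

/-!
Lifts of the first five generators to a central extension of the presented Thompson group: the undetermined
signs vanish, by an enumeration over the subgroup of the last two generators.
-/
set_option autoImplicit false
set_option maxRecDepth 8000

namespace CfsgLib.ThMult

open CfsgLib.Presented CfsgLib.Th

/-- A word moving a point is not trivial in the first subgroup presentation. -/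
theorem hev_ne_one {w : List ℕ} (hw : small w = true) (b : ℕ) (hb : b < P819.rep.N)
    (h : Nat.beq (trace w b) b = false) : evW hev w ≠ 1 := by
  intro h1
  have := trace_spec hw ⟨b, hb⟩
  rw [h1, map_one, inv_one, Equiv.Perm.one_apply] at this
  rw [show trace w b = b from this.symm, Nat.beq_refl] at h
  exact Bool.noConfusion h

/-- a word of the list reduces to the given word after some rotation -/
noncomputable def matchRot (known : List (List ℕ)) (r : List ℕ) : Bool :=
  small r && known.any fun w => small w && (List.range (w.length + 1)).any fun k =>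
    listEq (pushAll alphabet (rotW w k) []) (pushAll alphabet r [])

theorem rels_of_match {G : Type*} [Group G] {ev' : ℕ → G} (hgood : alphabet.Good ev') {known : List (List ℕ)}
    (hk : ∀ w ∈ known, evW ev' w = 1) {r : List ℕ} (h : matchRot known r = true) : evW ev' r = 1 := by
  simp only [matchRot, Bool.and_eq_true, List.any_eq_true, List.mem_range] at h
  obtain ⟨hr, w, hw, hws, k, -, he⟩ := h
  have hle : ∀ {v : List ℕ}, small v = true → ∀ x ∈ v, x ≤ alphabet.eps := fun {v} hv x hx => by
    simp only [small, List.all_eq_true, Nat.blt_eq] at hv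
    exact (hv x hx).le
  have hrot : ∀ x ∈ rotW w k, x ≤ alphabet.eps := fun x hx => by
    rcases List.mem_append.1 hx with h | h
    · exact hle hws x (List.mem_of_mem_drop h)
    · exact hle hws x (List.mem_of_mem_take h)
  have e := pushAll_ev hgood [] hrot
  rw [listEq_eq he, pushAll_ev hgood [] (hle hr)] at e
  simp only [List.reverse_nil, evW_nil, one_mul] at e
  rw [e]
  apply evW_rotate_eq_one
  rw [List.take_append_drop]
  exact hk w hw

/-- the words that are forced to be trivial -/
def uWords : List (List ℕ) :=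
  [wpow [0] 2, wpow [0, 8] 2, wpow [4, 8] 2, wpow [2, 6] 2, wpow [2, 8] 2, wpow [2, 4, 6, 8] 8]

/-- relations of the lifts known beforehand -/
noncomputable def uKnown : List (List ℕ) :=
  [[6, 6], [8, 8], [6, 8, 6, 8, 6, 8], [0, 7, 5, 7, 5, 7, 5, 7, 5], [0, 0, 3, 3], [2, 2, 5, 5],
    [0, 2, 0, 2, 0, 2, 1, 1], [2, 4, 2, 4, 2, 4, 3, 3]] ++ (uWords.take 5).map (fun w => w ++ w) ++
    uWords.flatMap fun w => [(0, 1), (2, 3), (4, 5), (6, 7), (8, 9)].map fun p =>
      invWord alphabet w ++ [p.2] ++ w ++ [p.1]

theorem uRels_ok : (UEnum.enum.rels.all fun r =>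
    matchRot uKnown (r.map fun x => [0, 1, 2, 3, 4, 5, 6, 7, 8, 9].getD x alphabet.eps)) = true := by
  decide +kernel

theorem uWords_check : (uWords.all fun w => relWords.contains w) = true := by decide +kernel

variable {Γ : Type} [Group Γ] (σ : Γ →* Cfsg.Spor.Th)

theorem map_lift_evW {f : Cfsg.Spor.Th.Gen → Γ} {w : List ℕ} (p : ℕ → Bool)
    (hf : ∀ x, p x = true → σ (f (genOf x).1) = PresentedGroup.of (genOf x).1) (hw : w.all p = true) :
    σ (evW (letters.ev f) w) = evW ev w := by
  rw [← letters_ev_congr (f := fun g => σ (f g)) hf hw]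
  simp only [evW, map_list_prod, List.map_map]
  congr 1
  refine List.map_congr_left fun x _ => ?_
  simp only [Function.comp_apply, Letters.ev]
  split
  · cases (letters.gen x).2 <;> simp
  · simp

variable {σ}

/-- The enumeration: with the known relations, all remaining values are trivial. -/
theorem u_values (hc : σ.ker ≤ Subgroup.center Γ) (hinj : Function.Injective iota)
    (f : Cfsg.Spor.Th.Gen → Γ)
    (hf : ∀ x, Nat.blt x 10 = true → σ (f (genOf x).1) = PresentedGroup.of (genOf x).1)
    (hd : f .d * f .d = 1) (he : f .e * f .e = 1) (hde : (f .d * f .e) ^ 3 = 1)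
    (hacd : f .a * ((f .c * f .d) ^ 4)⁻¹ = 1) (hab : f .a * f .a = f .b * f .b) (hbc : f .b * f .b = f .c * f .c)
    (hab3 : (f .a * f .b) ^ 3 = f .a * f .a) (hbc3 : (f .b * f .c) ^ 3 = f .b * f .b)
    (hsq : ∀ w ∈ uWords.take 5, evW (letters.ev f) w * evW (letters.ev f) w = 1) :
    ∀ w ∈ uWords, evW (letters.ev f) w = 1 := by
  set ev' := letters.ev f with hev'
  have hgood : alphabet.Good ev' := by
    refine ⟨Letters.ev_eps (L := letters), fun x hx => ?_⟩
    rcases Nat.eq_or_lt_of_le hx with rfl | h
    · rw [show alphabet.invl alphabet.eps = alphabet.eps by decide +kernel,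
        show ev' alphabet.eps = 1 from Letters.ev_eps (L := letters), one_mul]
    · exact Letters.ev_inv letters_valid (fun g hg => absurd hg (by simp [letters])) x h
  have e0 : ev' 0 = f .a := rfl
  have e1 : ev' 1 = (f .a)⁻¹ := rfl
  have e2 : ev' 2 = f .b := rfl
  have e3 : ev' 3 = (f .b)⁻¹ := rfl
  have e4 : ev' 4 = f .c := rfl
  have e5 : ev' 5 = (f .c)⁻¹ := rfl
  have e6 : ev' 6 = f .d := rfl
  have e7 : ev' 7 = (f .d)⁻¹ := rfl
  have e8 : ev' 8 = f .e := rfl
  have hone : ∀ w ∈ uWords, σ (evW ev' w) = 1 := by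
    intro w hw
    have hp : w.all (fun x => Nat.blt x 10) = true := by
      have : uWords.all (fun w => w.all fun x => Nat.blt x 10) = true := by decide +kernel
      exact List.all_eq_true.1 this w hw
    rw [map_lift_evW σ _ hf hp]
    exact rels_hold w (List.contains_iff_mem.1 (List.all_eq_true.1 uWords_check w hw))
  have hknown : ∀ w ∈ uKnown, evW ev' w = 1 := by
    intro w hw
    simp only [uKnown, List.mem_append, List.mem_map, List.mem_flatMap] at hw
    rcases hw with (h | ⟨v, hv, rfl⟩) | ⟨v, hv, p, hp, rfl⟩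
    · fin_cases h <;> simp only [evW_cons, evW_nil, mul_one, e0, e1, e2, e3, e4, e5, e6, e7, e8]
      · exact hd
      · exact he
      · conv_rhs => rw [← hde]
        simp only [pow_succ, pow_zero, one_mul, mul_one, mul_assoc, mul_inv_rev]
      · conv_rhs => rw [← hacd]
        simp only [pow_succ, pow_zero, one_mul, mul_one, mul_assoc, mul_inv_rev]
      · calc _ = f .a * f .a * (f .b * f .b)⁻¹ := by group
          _ = 1 := by rw [hab, mul_inv_cancel]
      · calc _ = f .b * f .b * (f .c * f .c)⁻¹ := by group
          _ = 1 := by rw [hbc, mul_inv_cancel]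
      · calc _ = (f .a * f .b) ^ 3 * (f .a * f .a)⁻¹ := by simp only [pow_succ, pow_zero, one_mul, mul_one, mul_assoc, mul_inv_rev]
          _ = 1 := by rw [hab3, mul_inv_cancel]
      · calc _ = (f .b * f .c) ^ 3 * (f .b * f .b)⁻¹ := by simp only [pow_succ, pow_zero, one_mul, mul_one, mul_assoc, mul_inv_rev]
          _ = 1 := by rw [hbc3, mul_inv_cancel]
    · rw [evW_append]
      exact hsq v hv
    · have hz : ∀ g, g * evW ev' v = evW ev' v * g :=
        fun g => Subgroup.mem_center_iff.1 (hc (MonoidHom.mem_ker.2 (hone v hv))) g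
      have hs : ∀ x ∈ v, x ≤ alphabet.eps := by
        have : uWords.all (fun w => w.all fun x => Nat.ble x alphabet.eps) = true := by decide +kernel
        intro x hx
        simpa using List.all_eq_true.1 (List.all_eq_true.1 this v hv) x hx
      have hpi : ev' p.2 = (ev' p.1)⁻¹ := by
        fin_cases hp <;> rfl
      rw [evW_append, evW_append, evW_append, evW_invWord hgood hs]
      simp only [evW_cons, evW_nil, mul_one, hpi]
      rw [mul_assoc _ (ev' p.1)⁻¹, hz, ← mul_assoc, inv_mul_cancel, one_mul, inv_mul_cancel]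
  let emb := [0, 1, 2, 3, 4, 5, 6, 7, 8, 9]
  have hI := Enum.interp_sub (ev := ev') (A := alphabet) (E := UEnum.enum) (emb := emb)
    (H := genBy ev' [6, 8]) hgood.one (fun x hx => hgood.inv x hx.le) (by decide +kernel) (by decide +kernel)
    (fun r hr => by
      have := rels_of_match hgood hknown (List.all_eq_true.1 uRels_ok r hr)
      rwa [evW_map] at this)
    (subs_of_check (seeds := []) (by simp) (by decide +kernel))
  have hdi : (f .d)⁻¹ = f .d := inv_eq_of_mul_eq_one_right hd
  have hei : (f .e)⁻¹ = f .e := inv_eq_of_mul_eq_one_right he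
  have hbraid : f .e * f .d * f .e = f .d * f .e * f .d := by
    have h : f .d * f .e * f .d * (f .e * f .d * f .e) = 1 := by
      conv_rhs => rw [← hde]
      simp only [pow_succ, pow_zero, one_mul, mul_one, mul_assoc, mul_inv_rev]
    calc f .e * f .d * f .e = (f .d * f .e * f .d)⁻¹ := eq_inv_of_mul_eq_one_right h
      _ = f .d * f .e * f .d := by rw [mul_inv_rev, mul_inv_rev, hdi, hei, mul_assoc]
  have hH : ∀ g ∈ genBy ev' [6, 8], ∃ w ∈ [[], [6], [8], [6, 8], [8, 6], [6, 8, 6]], g = evW ev' w := by
    intro g hg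
    have step : ∀ x : Γ, (∃ w ∈ [[], [6], [8], [6, 8], [8, 6], [6, 8, 6]], x = evW ev' w) → ∀ y ∈ [6, 8],
        ∃ w ∈ [[], [6], [8], [6, 8], [8, 6], [6, 8, 6]], x * ev' y = evW ev' w := by
      rintro x ⟨w, hw, rfl⟩ y hy
      have s1 : f .d * f .e * f .e = f .d := by rw [mul_assoc, he, mul_one]
      have s2 : f .e * f .d * f .d = f .e := by rw [mul_assoc, hd, mul_one]
      have s3 : f .d * f .e * f .d * f .d = f .d * f .e := by rw [mul_assoc _ (f .d) (f .d), hd, mul_one]
      have s4 : f .d * f .e * f .d * f .e = f .e * f .d := by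
        rw [← hbraid, mul_assoc _ (f .e) (f .e), he, mul_one]
      fin_cases hw <;> fin_cases hy
      · exact ⟨[6], by simp, by simp⟩
      · exact ⟨[8], by simp, by simp⟩
      · exact ⟨[], by simp, by simpa [e6] using hd⟩
      · exact ⟨[6, 8], by simp, by simp⟩
      · exact ⟨[8, 6], by simp, by simp⟩
      · exact ⟨[], by simp, by simpa [e8] using he⟩
      · exact ⟨[6, 8, 6], by simp, by simp [mul_assoc]⟩
      · exact ⟨[6], by simp, by simpa [e6, e8, mul_assoc] using s1⟩
      · exact ⟨[8], by simp, by simpa [e6, e8, mul_assoc] using s2⟩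
      · exact ⟨[6, 8, 6], by simp, by simpa [e6, e8, mul_assoc] using hbraid⟩
      · exact ⟨[6, 8], by simp, by simpa [e6, e8, mul_assoc] using s3⟩
      · exact ⟨[8, 6], by simp, by simpa [e6, e8, mul_assoc] using s4⟩
    induction hg using Subgroup.closure_induction_right with
    | one => exact ⟨[], by simp, by simp⟩
    | mul_right x _ y hy ih =>
      obtain ⟨z, hz, rfl⟩ := hy
      exact step x ih z hz
    | mul_inv_cancel x _ y hy ih =>
      obtain ⟨z, hz, rfl⟩ := hy
      have : (ev' z)⁻¹ = ev' z := by
        have hz' : z = 6 ∨ z = 8 := by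
          simpa [Set.mem_ofPred_eq] using hz
        rcases hz' with rfl | rfl
        · exact hdi
        · exact hei
      rw [this]
      exact step x ih z hz
  have hfree : ∀ g ∈ genBy ev' [6, 8], σ g = 1 → g = 1 := by
    intro g hg h1
    obtain ⟨w, hw, rfl⟩ := hH g hg
    rw [map_lift_evW σ (fun x => Nat.blt x 10) hf (by fin_cases hw <;> decide),
      ← iota_evW (by fin_cases hw <;> decide)] at h1
    have h2 := hinj (h1.trans (map_one iota).symm)
    fin_cases hw
    · rfl
    all_goals first
      | exact absurd h2 (hev_ne_one (by decide +kernel) 137 (by decide) (by decide +kernel))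
      | exact absurd h2 (hev_ne_one (by decide +kernel) 0 (by decide) (by decide +kernel))
      | exact absurd h2 (hev_ne_one (by decide +kernel) 1 (by decide) (by decide +kernel))
      | exact absurd h2 (hev_ne_one (by decide +kernel) 2 (by decide) (by decide +kernel))
  have fin : ∀ {w : List ℕ}, w ∈ uWords → evW (subEv ev' alphabet.eps emb) w • ((1 : Γ) : Γ ⧸ genBy ev' [6, 8]) =
      ((1 : Γ) : Γ ⧸ genBy ev' [6, 8]) → evW ev' w = 1 := by
    intro w hw h
    have : uWords.all (fun w => listEq (w.map fun x => emb.getD x alphabet.eps) w) = true := by decide +kernel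
    have h2 := listEq_eq (List.all_eq_true.1 this w hw)
    have h3 := mem_of_fix h
    rw [show evW (subEv ev' alphabet.eps emb) w = evW ev' (w.map fun x => emb.getD x alphabet.eps) from
      (evW_map ev' _ w).symm, h2] at h3
    exact hfree _ h3 (hone w hw)
  intro w hw
  refine fin hw ?_
  fin_cases hw
  · exact UEnum.loop0 hI
  · exact UEnum.loop1 hI
  · exact UEnum.loop2 hI
  · exact UEnum.loop3 hI
  · exact UEnum.loop4 hI
  · exact UEnum.loop5 hI

end CfsgLib.ThMult
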